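import Cfsg.Agent.QrcE.UNat
import Cfsg.Agent.QrcE.USym
import Cfsg.Agent.QrcE.Irr_mg
import Cfsg.Agent.ZN.ChoiceBase
import Cfsg.Agent.S0599
import Cfsg.Agent.PLocal.ElemAbSup
import Cfsg.Agent.PushGen.Red
import Mathlib
import Cfsg.Agent.Lib.Hyperfocal
import Cfsg.Agent.SignalizersComponents.PerfectGoingUp
set_option linter.all false

-- part: QrcE/U
section
/-!
# S1824: LEMMA U

`X` finite, `T` a Sylow 2-subgroup in a unique maximal subgroup `M`, `F` an irreducible module on which `O²(X)` is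
nontrivial, `A ≤ T` an offender on `F`, `C ≥ A` normalised by `M`.  Then `T ∩ O²(X) ≤ [C, O²(X) ∩ M] C_X(F)`.
-/

set_option autoImplicit false
set_option linter.unusedVariables false
set_option linter.unusedSectionVars false
set_option linter.style.haveILetI false

namespace Cfsg.Agent.QrcE

open Subgroup Cfsg Cfsg.Agent.MinSimple.MinParabolic Cfsg.Agent.Omega.FFBr
open Cfsg.Agent.ClassTwoFusion.Quad (cv mem_cv cv_anti)
open scoped commutatorElement

universe u

variable {X : Type u} [Group X]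

/-- `O²(X / K)` -/
theorem OO_quo [Finite X] (K : Subgroup X) [K.Normal] : OO (X ⧸ K) = (OO X).map (QuotientGroup.mk' K) := by
  apply le_antisymm
  · obtain ⟨T⟩ : Nonempty (Sylow 2 X) := inferInstance
    haveI : ((OO X).map (QuotientGroup.mk' K)).Normal :=
      OO_normal.map _ (QuotientGroup.mk'_surjective K)
    refine OO_le_of_sup (sylQ T K).isPGroup' ?_
    rw [sylQ_coe, ← Subgroup.map_sup, OO_sup T, map_top_of_surjective _ (QuotientGroup.mk'_surjective K)]
  · rw [map_le_iff_le_comap]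
    refine OO_le fun x hx => ?_
    refine mem_OO (Odd.of_dvd_nat hx ?_)
    exact orderOf_map_dvd _ x

variable {F : Type u} [Group F] [MulDistribMulAction X F]

theorem IrrMod.odd_eq [Finite X] (h : IrrMod X F) :
    letI := quoAct X F
    odd (X ⧸ ker X F) F = ⊥ := by
  letI := quoAct X F
  refine (h.irr (odd (X ⧸ ker X F) F) fun x w hw =>
    Cfsg.Agent.Omega.NO3b.Exit.TenFF.odd_smul (X := X ⧸ ker X F) hw (QuotientGroup.mk' (ker X F) x)).resolve_right ?_
  intro h1
  obtain ⟨x, hx, v, hv⟩ := h.nt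
  apply hv
  have h2 : v ∈ odd (X ⧸ ker X F) F := by rw [h1]; trivial
  exact h2 (QuotientGroup.mk' (ker X F) x) (Odd.of_dvd_nat hx (orderOf_map_dvd _ x))

/-- **LEMMA U** -/
theorem lemU (hFF : AStmt.{u}) [Finite X] [Finite F] {T : Sylow 2 X} {M : Subgroup X}
    (hm : IsMin (T : Subgroup X) M) (h : IrrMod X F) {A C : Subgroup X} (hAT : A ≤ (T : Subgroup X))
    (hA : ActsElem F A) (hne : ¬ A ≤ ker X F) (hle : (cv F (A : Set X)).index ≤ (ker X F).relIndex A)
    (hC : M ≤ normalizer (C : Set X)) (hAC : A ≤ C) :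
    (T : Subgroup X) ⊓ OO X ≤ ⁅C, OO X ⊓ M⁆ ⊔ ker X F := by
  letI := quoAct X F
  set π := QuotientGroup.mk' (ker X F) with hπ
  have hKM : ker X F ≤ M := le_sup_left.trans (h.ker_sup_le hm)
  have hoff : AOff F (A.map π) := aOff_map hA hne hle
  have habs := h.abs_quo hm
  have hodd := h.odd_eq
  have hC' : M.map π ≤ normalizer ((C.map π : Subgroup (X ⧸ ker X F)) : Set (X ⧸ ker X F)) :=
    (map_mono hC).trans (le_normalizer_map π)
  have hAT' : A.map π ≤ ((sylQ T (ker X F) : Sylow 2 (X ⧸ ker X F)) : Subgroup (X ⧸ ker X F)) := map_mono hAT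
  have key : ((sylQ T (ker X F) : Sylow 2 (X ⧸ ker X F)) : Subgroup (X ⧸ ker X F)) ⊓ OO (X ⧸ ker X F) ≤
      ⁅C.map π, OO (X ⧸ ker X F) ⊓ M.map π⁆ := by
    rcases (hFF (X ⧸ ker X F) F (sylQ T (ker X F)) _ habs ⟨_, hoff⟩).2 with
      ⟨E, _, _, _, k, hk, ⟨N⟩⟩ | ⟨k, m, hk, hm2, ⟨N⟩⟩
    · exact UNat.u_nat N habs hodd hk hAT' hoff hC' (map_mono hAC)
    · exact USym.u_sym N habs hodd hk hm2 hAT' hoff hC' (map_mono hAC)
  have hinf : OO (X ⧸ ker X F) ⊓ M.map π ≤ (OO X ⊓ M).map π := by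
    rintro y ⟨h1, m, hm1, rfl⟩
    rw [OO_quo] at h1
    obtain ⟨l, hl, hlm⟩ := h1
    have h2 : m⁻¹ * l ∈ ker X F := QuotientGroup.eq.1 hlm.symm
    have h3 : l ∈ M := by
      have h4 : l = m * (m⁻¹ * l) := by group
      rw [h4]
      exact mul_mem hm1 (hKM h2)
    exact ⟨l, ⟨hl, h3⟩, hlm⟩
  rintro t ⟨ht, htO⟩
  have h1 : π t ∈ ⁅C.map π, OO (X ⧸ ker X F) ⊓ M.map π⁆ := by
    refine key ⟨⟨t, ht, rfl⟩, ?_⟩
    rw [OO_quo]
    exact ⟨t, htO, rfl⟩
  have h2 : π t ∈ (⁅C, OO X ⊓ M⁆).map π := by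
    rw [map_commutator]
    exact commutator_mono le_rfl hinf h1
  have h3 : t ∈ ((⁅C, OO X ⊓ M⁆).map π).comap π := h2
  rwa [comap_map_eq, hπ, QuotientGroup.ker_mk'] at h3

end Cfsg.Agent.QrcE
end

-- part: QrcE/Sec
section
/-!
# S1824: sections `W / D` of a finite group as modules

`D ≤ W` normal subgroups of `X`; `X` acts on `sec D W = W / D` by conjugation (`secAct`).
-/

set_option autoImplicit false
set_option linter.unusedVariables false
set_option linter.unusedSectionVars false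
set_option linter.style.haveILetI false

namespace Cfsg.Agent.QrcE

open Subgroup Cfsg Cfsg.Agent.MinSimple.MinParabolic Cfsg.Agent.Omega.FFBr
open Cfsg.Agent.ClassTwoFusion.Quad (cv mem_cv cv_anti)
open scoped commutatorElement

universe u

variable {X : Type u} [Group X]

/-- the section `W / D` -/
abbrev sec (D W : Subgroup X) [D.Normal] : Type u := ↥(W.map (QuotientGroup.mk' D))

/-- the action on the section -/
@[reducible] def secAct (D W : Subgroup X) [D.Normal] [hW : W.Normal] : MulDistribMulAction X (sec D W) :=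
  haveI : (W.map (QuotientGroup.mk' D)).Normal := hW.map _ (QuotientGroup.mk'_surjective D)
  MulDistribMulAction.compHom (sec D W)
    ((MulAut.conjNormal (H := W.map (QuotientGroup.mk' D))).comp (QuotientGroup.mk' D))

section

variable (D W : Subgroup X) [D.Normal] [W.Normal]

theorem sec_smul_coe (x : X) (w : sec D W) :
    letI := secAct D W
    ((x • w : sec D W) : X ⧸ D) = QuotientGroup.mk' D x * w * (QuotientGroup.mk' D x)⁻¹ := rfl

/-- the class of an element of `W` -/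
def cls {W : Subgroup X} (w : W) : sec D W := ⟨QuotientGroup.mk' D w, w, w.2, rfl⟩

theorem exists_cls (v : sec D W) : ∃ w : W, cls D w = v := by
  obtain ⟨_, w, hw, rfl⟩ := v
  exact ⟨⟨w, hw⟩, rfl⟩

theorem cls_eq_iff {w w' : W} : cls D w = cls D w' ↔ (w : X)⁻¹ * w' ∈ D := by
  rw [Subtype.ext_iff]
  exact QuotientGroup.eq

theorem smul_cls (x : X) (w : W) :
    letI := secAct D W
    x • cls D w = cls D (⟨x * w * x⁻¹, (‹W.Normal›).conj_mem w w.2 x⟩ : W) := rfl

theorem smul_cls_eq_iff (x : X) (w : W) :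
    letI := secAct D W
    x • cls D w = cls D w ↔ ⁅x, (w : X)⁆ ∈ D := by
  letI := secAct D W
  rw [smul_cls, cls_eq_iff, commutatorElement_def]
  have hD : D.Normal := inferInstance
  have e1 : (x * (w : X) * x⁻¹)⁻¹ * w = (w : X)⁻¹ * ((w : X) * (x * (w : X)⁻¹ * x⁻¹)) * ((w : X)⁻¹)⁻¹ := by group
  have e2 : x * (w : X) * x⁻¹ * (w : X)⁻¹ = ((w : X) * (x * (w : X)⁻¹ * x⁻¹))⁻¹ := by group
  change (x * (w : X) * x⁻¹)⁻¹ * w ∈ D ↔ _
  rw [e1, e2, inv_mem_iff]
  constructor
  · intro h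
    have := hD.conj_mem _ h (w : X)
    convert this using 1
    group
  · intro h
    exact hD.conj_mem _ h (w : X)⁻¹

theorem mem_ker_sec {x : X} :
    letI := secAct D W
    x ∈ ker X (sec D W) ↔ ∀ w ∈ W, ⁅x, w⁆ ∈ D := by
  letI := secAct D W
  constructor
  · intro h w hw
    exact (smul_cls_eq_iff D W x ⟨w, hw⟩).1 (h _)
  · intro h v
    obtain ⟨w, rfl⟩ := exists_cls D W v
    exact (smul_cls_eq_iff D W x w).2 (h w w.2)

/-- `C_W(A mod D)` -/
def cW (A : Set X) : Subgroup X where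
  carrier := {w | w ∈ W ∧ ∀ a ∈ A, ⁅a, w⁆ ∈ D}
  one_mem' := ⟨one_mem _, fun a _ => by rw [commutatorElement_one_right]; exact one_mem _⟩
  mul_mem' := by
    rintro v w ⟨hv, hv'⟩ ⟨hw, hw'⟩
    refine ⟨mul_mem hv hw, fun a ha => ?_⟩
    have h1 := (smul_cls_eq_iff D W a ⟨v, hv⟩).2 (hv' a ha)
    have h2 := (smul_cls_eq_iff D W a ⟨w, hw⟩).2 (hw' a ha)
    letI := secAct D W
    refine (smul_cls_eq_iff D W a ⟨v * w, mul_mem hv hw⟩).1 ?_
    have e : cls D (⟨v * w, mul_mem hv hw⟩ : W) = cls D (⟨v, hv⟩ : W) * cls D (⟨w, hw⟩ : W) := rfl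
    rw [e, smul_mul', h1, h2]
  inv_mem' := by
    rintro v ⟨hv, hv'⟩
    refine ⟨inv_mem hv, fun a ha => ?_⟩
    have h1 := (smul_cls_eq_iff D W a ⟨v, hv⟩).2 (hv' a ha)
    letI := secAct D W
    refine (smul_cls_eq_iff D W a ⟨v⁻¹, inv_mem hv⟩).1 ?_
    have e : cls D (⟨v⁻¹, inv_mem hv⟩ : W) = (cls D (⟨v, hv⟩ : W))⁻¹ := rfl
    rw [e, smul_inv', h1]

theorem mem_cW {A : Set X} {w : X} : w ∈ cW D W A ↔ w ∈ W ∧ ∀ a ∈ A, ⁅a, w⁆ ∈ D := Iff.rfl

theorem cW_le (A : Set X) : cW D W A ≤ W := fun _ h => h.1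

theorem le_cW (hDW : D ≤ W) (A : Set X) : D ≤ cW D W A := fun d hd => by
  refine ⟨hDW hd, fun a _ => ?_⟩
  rw [commutatorElement_def]
  exact mul_mem ((‹D.Normal›).conj_mem d hd a) (inv_mem hd)

theorem inf_centralizer_le_cW (A : Subgroup X) : W ⊓ centralizer (A : Set X) ≤ cW D W (A : Set X) := by
  rintro w ⟨hw, hw'⟩
  refine ⟨hw, fun a ha => ?_⟩
  have h1 : ⁅a, w⁆ = 1 := by
    rw [commutatorElement_eq_one_iff_mul_comm]
    exact mem_centralizer_iff.1 hw' a ha
  rw [h1]
  exact one_mem _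

theorem index_cv (A : Set X) :
    letI := secAct D W
    (cv (sec D W) A).index = (cW D W A).relIndex W := by
  letI := secAct D W
  let f : W →* sec D W :=
    { toFun := cls D
      map_one' := rfl
      map_mul' := fun _ _ => rfl }
  have hf : Function.Surjective f := exists_cls D W
  have h1 : (cv (sec D W) A).comap f = (cW D W A).subgroupOf W := by
    ext w
    rw [mem_comap, mem_subgroupOf, mem_cW, mem_cv]
    constructor
    · intro h
      exact ⟨w.2, fun a ha => (smul_cls_eq_iff D W a w).1 (h a ha)⟩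
    · rintro ⟨-, h⟩ a ha
      exact (smul_cls_eq_iff D W a w).2 (h a ha)
  rw [← index_comap_of_surjective _ hf, h1]
  rfl

/-- the inequality used for the count of chief factors -/
theorem index_cv_mul [Finite X] (hDW : D ≤ W) (A : Subgroup X) :
    letI := secAct D W
    (cv (sec D W) (A : Set X)).index * (centralizer (A : Set X)).relIndex D ≤
      (centralizer (A : Set X)).relIndex W := by
  letI := secAct D W
  rw [index_cv, ← inf_relIndex_left W (centralizer (A : Set X)),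
    ← relIndex_mul_relIndex _ _ _ (inf_centralizer_le_cW D W A) (cW_le D W (A : Set X)), mul_comm]
  refine Nat.mul_le_mul_right _ ?_
  have h1 : (centralizer (A : Set X)).relIndex D = (W ⊓ centralizer (A : Set X)).relIndex D := by
    rw [← inf_relIndex_right, ← inf_relIndex_right (W ⊓ centralizer (A : Set X))]
    congr 1
    rw [inf_comm (W ⊓ centralizer (A : Set X)), ← inf_assoc, inf_eq_left.2 hDW, inf_comm]
  rw [h1]
  exact relIndex_le_of_le_right (le_cW D W hDW _) (by
    rw [relIndex]; exact index_ne_zero_of_finite)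

/-- `W / D` is a noncentral chief factor -/
structure Chief (D W : Subgroup X) : Prop where
  le : D ≤ W
  sq : ∀ w ∈ W, w * w ∈ D
  irr : ∀ N : Subgroup X, N.Normal → D ≤ N → N ≤ W → N = D ∨ N = W
  nt : ¬ ⁅W, OO X⁆ ≤ D

variable {D W}

/-- `W / D` without proper invariant subgroups -/
theorem irr_sec (hDW : D ≤ W) (hirr : ∀ N : Subgroup X, N.Normal → D ≤ N → N ≤ W → N = D ∨ N = W) :
    letI := secAct D W
    ∀ N : Subgroup (sec D W), (∀ x : X, ∀ v ∈ N, x • v ∈ N) → N = ⊥ ∨ N = ⊤ := by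
  letI := secAct D W
  intro N hN
  let N' : Subgroup X := (N.map (W.map (QuotientGroup.mk' D)).subtype).comap (QuotientGroup.mk' D)
  have hmem : ∀ x : X, x ∈ N' ↔ ∃ v ∈ N, (v : X ⧸ D) = QuotientGroup.mk' D x := fun x => Iff.rfl
  have hD : D ≤ N' := by
    intro d hd
    rw [hmem]
    exact ⟨1, one_mem _, ((QuotientGroup.eq_one_iff d).2 hd).symm⟩
  have hW : N' ≤ W := by
    intro x hx
    obtain ⟨v, -, hv⟩ := (hmem x).1 hx
    obtain ⟨w, rfl⟩ := exists_cls D W v
    have h1 : (w : X)⁻¹ * x ∈ D := QuotientGroup.eq.1 hv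
    have h2 : x = w * ((w : X)⁻¹ * x) := by group
    rw [h2]
    exact mul_mem w.2 (hDW h1)
  have hn : N'.Normal := by
    refine ⟨fun x hx g => ?_⟩
    obtain ⟨v, hv, hvx⟩ := (hmem x).1 hx
    rw [hmem]
    refine ⟨g • v, hN g v hv, ?_⟩
    rw [sec_smul_coe, hvx, map_mul, map_mul, map_inv]
  rcases hirr N' hn hD hW with h1 | h1
  · left
    rw [Subgroup.eq_bot_iff_forall]
    intro v hv
    obtain ⟨w, rfl⟩ := exists_cls D W v
    have h2 : (w : X) ∈ N' := (hmem _).2 ⟨_, hv, rfl⟩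
    rw [h1] at h2
    have e1 : (1 : sec D W) = cls D (1 : W) := rfl
    rw [e1, cls_eq_iff]
    simpa using h2
  · right
    rw [eq_top_iff]
    intro v _
    obtain ⟨w, rfl⟩ := exists_cls D W v
    have h2 : (w : X) ∈ N' := by rw [h1]; exact w.2
    obtain ⟨v', hv', he⟩ := (hmem _).1 h2
    have h3 : v' = cls D w := Subtype.ext he
    rw [← h3]
    exact hv'

theorem sec_sq (hsq : ∀ w ∈ W, w * w ∈ D) (v : sec D W) : v * v = 1 := by
  obtain ⟨w, rfl⟩ := exists_cls D W v
  have e : cls D w * cls D w = cls D (⟨w * w, mul_mem w.2 w.2⟩ : W) := rfl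
  have e1 : (1 : sec D W) = cls D (1 : W) := rfl
  rw [e, e1, cls_eq_iff]
  have := inv_mem (hsq w w.2)
  simpa [mul_inv_rev] using this

theorem Chief.irrMod (h : Chief D W) :
    letI := secAct D W
    IrrMod X (sec D W) := by
  letI := secAct D W
  refine ⟨sec_sq h.sq, irr_sec h.le h.irr, ?_⟩
  by_contra hcon
  push Not at hcon
  apply h.nt
  have h1 : OO X ≤ ker X (sec D W) := OO_le fun x hx v => hcon x hx v
  rw [commutator_le]
  intro w hw x hx
  have h2 := (mem_ker_sec D W).1 (h1 hx) w hw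
  rw [← commutatorElement_inv]
  exact inv_mem h2

/-- a normal elementary abelian 2-subgroup centralised by `O²(X)` has a normal hyperplane -/
theorem exists_hyper [Finite X] (T : Sylow 2 X) {E : Subgroup X} [hE : E.Normal] (hEe : IsElementaryAbelian 2 E)
    (hL : ⁅E, OO X⁆ = ⊥) (hne : E ≠ ⊥) : ∃ H : Subgroup X, H.Normal ∧ H < E ∧
      ∀ x ∈ E, ∀ y ∈ E, x ∉ H → y ∉ H → x * y ∈ H := by
  obtain ⟨H, hH⟩ := (Set.toFinite {H : Subgroup X | H.Normal ∧ H < E}).exists_maximal
    ⟨⊥, inferInstance, bot_lt_iff_ne_bot.2 hne⟩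
  haveI hHn : H.Normal := hH.prop.1
  have hlt := hH.prop.2
  refine ⟨H, hHn, hlt, ?_⟩
  letI := secAct H E
  have hsq : ∀ v : sec H E, v * v = 1 := sec_sq fun w hw => by
    rw [← pow_two, hEe.2 w hw]; exact one_mem _
  have hirr := irr_sec (D := H) (W := E) hlt.le (fun N hN hHN hNE => by
    by_cases h1 : N = E
    · exact Or.inr h1
    · exact Or.inl (le_antisymm (hH.le_of_ge ⟨hN, lt_of_le_of_ne hNE h1⟩ hHN) hHN))
  obtain ⟨e, heE, heH⟩ := SetLike.exists_of_lt hlt
  have hnt : Nontrivial (sec H E) := by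
    refine ⟨cls H (⟨e, heE⟩ : E), cls H (1 : E), fun h1 => heH ?_⟩
    rw [cls_eq_iff] at h1
    simpa using h1
  obtain ⟨v, hv1, hvT⟩ := exists_fixed (X := X) hsq hnt T.isPGroup'
  have hvX : ∀ x : X, x • v = v := by
    have h1 : MulAction.stabilizer X v = ⊤ := by
      rw [eq_top_iff, ← OO_sup T]
      refine sup_le (fun l hl => ?_) fun t ht => hvT t ht
      obtain ⟨w, rfl⟩ := exists_cls H E v
      change l • cls H w = cls H w
      rw [smul_cls_eq_iff]
      have h2 : ⁅(w : X), l⁆ = 1 := by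
        have h3 : ⁅(w : X), l⁆ ∈ ⁅E, OO X⁆ := commutator_mem_commutator w.2 hl
        rwa [hL, mem_bot] at h3
      rw [← commutatorElement_inv, h2, inv_one]
      exact one_mem _
    intro x
    exact (h1 ▸ mem_top x : x ∈ MulAction.stabilizer X v)
  have hz : zpowers v = ⊤ := by
    refine (hirr (zpowers v) fun x w hw => ?_).resolve_left fun h1 => hv1 (zpowers_eq_bot.1 h1)
    obtain ⟨n, rfl⟩ := hw
    change x • v ^ n ∈ _
    rw [smul_zpow', hvX]
    exact ⟨n, rfl⟩
  have hall : ∀ w : sec H E, w ≠ 1 → w = v := by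
    intro w hw
    have h1 : w ∈ zpowers v := by rw [hz]; trivial
    obtain ⟨n, rfl⟩ := h1
    change v ^ n ≠ 1 at hw
    change v ^ n = v
    rcases Int.even_or_odd' n with ⟨m, rfl | rfl⟩
    · exfalso
      apply hw
      rw [zpow_mul, zpow_ofNat, pow_two, hsq, one_zpow]
    · rw [zpow_add, zpow_mul, zpow_ofNat, pow_two, hsq, one_zpow, one_mul, zpow_one]
  intro x hx y hy hxH hyH
  have hne1 : ∀ z (hz : z ∈ E), z ∉ H → cls H (⟨z, hz⟩ : E) ≠ 1 := by
    intro z hz hzH h1
    apply hzH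
    have e1 : (1 : sec H E) = cls H (1 : E) := rfl
    rw [e1, cls_eq_iff] at h1
    simpa using h1
  have h1 := hall _ (hne1 x hx hxH)
  have h2 := hall _ (hne1 y hy hyH)
  have h3 : cls H (⟨x * y, mul_mem hx hy⟩ : E) = 1 := by
    have e : cls H (⟨x * y, mul_mem hx hy⟩ : E) = cls H (⟨x, hx⟩ : E) * cls H (⟨y, hy⟩ : E) := rfl
    rw [e, h1, h2, hsq]
  by_contra h4
  exact hne1 _ _ h4 h3

/-- elementary abelian groups act as such -/
theorem actsElem_of_elem {A : Subgroup X} (hA : IsElementaryAbelian 2 A) :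
    letI := secAct D W
    ActsElem (sec D W) A := by
  letI := secAct D W
  have h := Cfsg.Agent.PLocal.ThompsonJ.isElementaryAbelian_iff.1 hA
  refine ⟨fun a ha b hb v => ?_, fun a ha v => ?_⟩
  · rw [← mul_smul, ← mul_smul, h.1 a ha b hb]
  · rw [← mul_smul, ← pow_two, h.2 a ha, one_smul]

theorem relIndex_ker_sec [Finite X] {T : Sylow 2 X} {M : Subgroup X}
    (hm : IsMin (T : Subgroup X) M) (h : Chief D W) {A : Subgroup X} (hAT : A ≤ (T : Subgroup X)) :
    letI := secAct D W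
    (ker X (sec D W)).relIndex A = (pCore 2 X).relIndex A := by
  letI := secAct D W
  have h1 := h.irrMod.inf_ker hm
  rw [← inf_relIndex_right, ← inf_relIndex_right (pCore 2 X), ← h1, inf_comm _ A, inf_comm _ A, ← inf_assoc,
    inf_eq_left.2 hAT]

theorem not_le_ker_sec [Finite X] {T : Sylow 2 X} {M : Subgroup X}
    (hm : IsMin (T : Subgroup X) M) (h : Chief D W) {A : Subgroup X} (hAT : A ≤ (T : Subgroup X))
    (hA : ¬ A ≤ pCore 2 X) :
    letI := secAct D W
    ¬ A ≤ ker X (sec D W) := by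
  letI := secAct D W
  intro h1
  apply hA
  rw [← h.irrMod.inf_ker hm]
  exact le_inf hAT h1

/-- **no over-offender on a chief factor** -/
theorem noOver_sec (hFF : AStmt.{u}) [Finite X] {T : Sylow 2 X} {M : Subgroup X}
    (hm : IsMin (T : Subgroup X) M) (h : Chief D W) {A : Subgroup X} (hAT : A ≤ (T : Subgroup X))
    (hA : IsElementaryAbelian 2 A) :
    (pCore 2 X).relIndex A * (centralizer (A : Set X)).relIndex D ≤ (centralizer (A : Set X)).relIndex W := by
  letI := secAct D W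
  have h1 := h.irrMod.noOver hFF hm (actsElem_of_elem (D := D) (W := W) hA)
  rw [relIndex_ker_sec hm h hAT] at h1
  exact (Nat.mul_le_mul_right _ h1).trans (index_cv_mul D W h.le A)

/-- **LEMMA U for a section** -/
theorem lemU_sec (hFF : AStmt.{u}) [Finite X] {T : Sylow 2 X} {M : Subgroup X}
    (hm : IsMin (T : Subgroup X) M) (h : Chief D W) {A C : Subgroup X} (hAT : A ≤ (T : Subgroup X))
    (hA : IsElementaryAbelian 2 A) (hne : ¬ A ≤ pCore 2 X)
    (hle : (cW D W (A : Set X)).relIndex W ≤ (pCore 2 X).relIndex A)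
    (hC : M ≤ normalizer (C : Set X)) (hAC : A ≤ C) :
    letI := secAct D W
    (T : Subgroup X) ⊓ OO X ≤ ⁅C, OO X ⊓ M⁆ ⊔ ker X (sec D W) := by
  letI := secAct D W
  refine lemU hFF hm h.irrMod hAT (actsElem_of_elem hA) (not_le_ker_sec hm h hAT hne) ?_ hC hAC
  rw [index_cv, relIndex_ker_sec hm h hAT]
  exact hle

end

end Cfsg.Agent.QrcE
end

-- part: QrcE/Pass
section
/-!
# S1824: passing from `U = ⟨V^X⟩` to a conjugate of `V`

`pass` : `B ≤ O₂(X)` elementary abelian, quadratic on `U = ⟨V^X⟩`, `[U, B] ≠ 1`,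
`|U : C_U(B)| ≤ |B : C_B(U)|²`; then `q(T, V) ≤ 2`.
-/

set_option autoImplicit false

namespace Cfsg.Agent.QrcE

open Subgroup Cfsg Cfsg.Agent.MinSimple.MinParabolic Cfsg.Agent.PLocal.ThompsonJ
open Cfsg.Agent.ZN.ChoiceBase (cj mem_cj cj_mono cj_le_iff cj_inv_cj cj_cj_inv card_cj cj_inf cj_centralizer
  isElementaryAbelian_cj)
open scoped commutatorElement

universe u

section

variable {X : Type u} [Group X]

theorem cj_commutator (g : X) (A B : Subgroup X) : cj g ⁅A, B⁆ = ⁅cj g A, cj g B⁆ := map_commutator _ _ _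

theorem card_inf_mul_relIndex [Finite X] (A C : Subgroup X) :
    Nat.card ↥(A ⊓ C) * C.relIndex A = Nat.card A := by
  have h := relIndex_mul_relIndex (⊥ : Subgroup X) (A ⊓ C) A bot_le inf_le_left
  rwa [relIndex_bot_left, relIndex_bot_left, inf_relIndex_left] at h

/-- `q ≤ 2` from orders -/
theorem quadParamLE_of_card [Finite X] {T V B : Subgroup X} (hBT : B ≤ T)
    (hB2 : ∀ b ∈ B, b ^ 2 ∈ centralizer (V : Set X))
    (hBc : ∀ b ∈ B, ∀ b' ∈ B, b * b' * b⁻¹ * b'⁻¹ ∈ centralizer (V : Set X))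
    (ne : ¬ B ≤ centralizer (V : Set X)) (quad : ⁅⁅V, B⁆, B⁆ = ⊥)
    (h : Nat.card ↥(B ⊓ centralizer (V : Set X)) ^ 2 * Nat.card V ≤
      Nat.card B ^ 2 * Nat.card ↥(V ⊓ centralizer (B : Set X))) : QuadParamLE T V 2 := by
  refine ⟨B, hBT, ⟨ne, hB2, hBc⟩, quad, ?_⟩
  have h1 := card_inf_mul_relIndex B (centralizer (V : Set X))
  have h2 := card_inf_mul_relIndex V (V ⊓ centralizer (B : Set X))
  rw [← inf_assoc, inf_idem] at h2
  have p1 : 0 < Nat.card ↥(B ⊓ centralizer (V : Set X)) := Nat.card_pos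
  have p2 : 0 < Nat.card ↥(V ⊓ centralizer (B : Set X)) := Nat.card_pos
  set b := Nat.card ↥(B ⊓ centralizer (V : Set X))
  set c := Nat.card ↥(V ⊓ centralizer (B : Set X))
  rw [← h1, ← h2] at h
  refine Nat.le_of_mul_le_mul_left (c := b ^ 2 * c) ?_ (by positivity)
  calc b ^ 2 * c * (V ⊓ centralizer (B : Set X)).relIndex V
      = b ^ 2 * (c * (V ⊓ centralizer (B : Set X)).relIndex V) := by ring
    _ ≤ (b * (centralizer (V : Set X)).relIndex B) ^ 2 * c := h
    _ = _ := by ring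

theorem quadParamLE_of_elem [Finite X] {T V B : Subgroup X} (hBT : B ≤ T) (hB : IsElementaryAbelian 2 B)
    (ne : ¬ B ≤ centralizer (V : Set X)) (quad : ⁅⁅V, B⁆, B⁆ = ⊥)
    (h : Nat.card ↥(B ⊓ centralizer (V : Set X)) ^ 2 * Nat.card V ≤
      Nat.card B ^ 2 * Nat.card ↥(V ⊓ centralizer (B : Set X))) : QuadParamLE T V 2 := by
  refine quadParamLE_of_card hBT (fun b hb => ?_) (fun b hb b' hb' => ?_) ne quad h
  · rw [hB.2 b hb]; exact one_mem _
  · have : b * b' * b⁻¹ * b'⁻¹ = 1 := by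
      rw [(isElementaryAbelian_iff.1 hB).1 b hb b' hb']; group
    rw [this]; exact one_mem _

/-- `U = ⟨V^X⟩ ` is centralized by `B` if all conjugates of `V` are -/
theorem normalClosure_le_centralizer {V B : Subgroup X}
    (h : ∀ g : X, B ≤ centralizer ((cj g V : Subgroup X) : Set X)) :
    B ≤ centralizer ((normalClosure (V : Set X) : Subgroup X) : Set X) := by
  rw [le_centralizer_iff]
  rw [normalClosure, closure_le]
  intro y hy
  obtain ⟨v, hv, hvy⟩ := Group.mem_conjugatesOfSet_iff.1 hy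
  obtain ⟨g, rfl⟩ := isConj_iff.1 hvy
  have h1 := (le_centralizer_iff.1 (h g)) ⟨v, hv, rfl⟩
  exact h1

theorem cj_le_normalClosure (V : Subgroup X) (g : X) : cj g V ≤ normalClosure (V : Set X) := by
  rintro _ ⟨v, hv, rfl⟩
  exact (normalClosure_normal (s := (V : Set X))).conj_mem v (subset_normalClosure hv) g

/-- `C_U(B) C_W ≤ ...` -/
theorem pass_aux [Finite X] {U W C : Subgroup X} (hWU : W ≤ U) (hf : Nat.card ↥(C ⊓ centralizer (W : Set X)) ^ 2 *
      Nat.card ↥(U ⊓ centralizer ((C ⊓ centralizer (W : Set X) : Subgroup X) : Set X)) ≤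
      Nat.card C ^ 2 * Nat.card ↥(U ⊓ centralizer (C : Set X))) :
    Nat.card ↥(C ⊓ centralizer (W : Set X)) ^ 2 * Nat.card W ≤
      Nat.card C ^ 2 * Nat.card ↥(W ⊓ centralizer (C : Set X)) := by
  set D : Subgroup X := C ⊓ centralizer (W : Set X) with hD
  have h1 : Nat.card W * Nat.card ↥(U ⊓ centralizer (C : Set X)) ≤
      Nat.card ↥(W ⊓ (U ⊓ centralizer (C : Set X))) * Nat.card ↥(U ⊓ centralizer (D : Set X)) :=
    Cfsg.Agent.PLocal.Timmesfeld.card_mul_card_le
      (le_inf hWU (le_centralizer_iff.1 inf_le_right))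
      (inf_le_inf_left _ (centralizer_le (SetLike.coe_subset_coe.2 inf_le_left)))
  rw [← inf_assoc, inf_eq_left.2 hWU] at h1
  have p1 : 0 < Nat.card ↥(U ⊓ centralizer (C : Set X)) := Nat.card_pos
  refine Nat.le_of_mul_le_mul_right ?_ p1
  calc Nat.card D ^ 2 * Nat.card W * Nat.card ↥(U ⊓ centralizer (C : Set X))
      = Nat.card D ^ 2 * (Nat.card W * Nat.card ↥(U ⊓ centralizer (C : Set X))) := by ring
    _ ≤ Nat.card D ^ 2 * (Nat.card ↥(W ⊓ centralizer (C : Set X)) * Nat.card ↥(U ⊓ centralizer (D : Set X))) :=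
        Nat.mul_le_mul_left _ h1
    _ = (Nat.card D ^ 2 * Nat.card ↥(U ⊓ centralizer (D : Set X))) * Nat.card ↥(W ⊓ centralizer (C : Set X)) := by
        ring
    _ ≤ (Nat.card C ^ 2 * Nat.card ↥(U ⊓ centralizer (C : Set X))) * Nat.card ↥(W ⊓ centralizer (C : Set X)) :=
        Nat.mul_le_mul_right _ hf
    _ = _ := by ring

/-- **Lemma P** -/
theorem pass [Finite X] (T : Sylow 2 X) {V B : Subgroup X} (hBQ : B ≤ pCore 2 X) (hB : IsElementaryAbelian 2 B)
    (ne : ¬ B ≤ centralizer ((normalClosure (V : Set X) : Subgroup X) : Set X))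
    (quad : ⁅⁅normalClosure (V : Set X), B⁆, B⁆ = ⊥)
    (h : Nat.card ↥(B ⊓ centralizer ((normalClosure (V : Set X) : Subgroup X) : Set X)) ^ 2 *
        Nat.card (normalClosure (V : Set X)) ≤
      Nat.card B ^ 2 * Nat.card ↥(normalClosure (V : Set X) ⊓ centralizer (B : Set X))) :
    QuadParamLE (T : Subgroup X) V 2 := by
  set U : Subgroup X := normalClosure (V : Set X) with hU
  let f : Subgroup X → ℕ := fun C => Nat.card C ^ 2 * Nat.card ↥(U ⊓ centralizer (C : Set X))
  obtain ⟨C₀, hC₀, hmax⟩ := Set.exists_max_image {C : Subgroup X | C ≤ B} f (Set.toFinite _) ⟨B, le_refl B⟩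
  have key : ∃ C : Subgroup X, C ≤ B ∧ ¬ C ≤ centralizer (U : Set X) ∧ ∀ D : Subgroup X, D ≤ B → f D ≤ f C := by
    by_cases hc : C₀ ≤ centralizer (U : Set X)
    · refine ⟨B, le_rfl, ne, fun D hD => (hmax D hD).trans ?_⟩
      have h1 : Nat.card C₀ ≤ Nat.card ↥(B ⊓ centralizer (U : Set X)) := card_le_of_le (le_inf hC₀ hc)
      have h2 : Nat.card ↥(U ⊓ centralizer (C₀ : Set X)) ≤ Nat.card U := card_le_of_le inf_le_left
      exact (Nat.mul_le_mul (Nat.pow_le_pow_left h1 2) h2).trans h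
    · exact ⟨C₀, hC₀, hc, hmax⟩
  obtain ⟨C, hCB, hCne, hC⟩ := key
  obtain ⟨g, hg⟩ : ∃ g : X, ¬ C ≤ centralizer ((cj g V : Subgroup X) : Set X) := by
    by_contra hcon
    push Not at hcon
    exact hCne (normalClosure_le_centralizer hcon)
  have hWU : cj g V ≤ U := cj_le_normalClosure V g
  have h1 := pass_aux hWU (hC _ (inf_le_left.trans hCB))
  have hq : ⁅⁅cj g V, C⁆, C⁆ = ⊥ := by
    refine le_bot_iff.1 ?_
    rw [← quad]
    exact commutator_mono (commutator_mono hWU hCB) hCB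
  have e1 : cj g⁻¹ (centralizer ((cj g V : Subgroup X) : Set X)) = centralizer (V : Set X) := by
    rw [cj_centralizer, cj_inv_cj]
  have e2 : cj g⁻¹ (centralizer (C : Set X)) = centralizer ((cj g⁻¹ C : Subgroup X) : Set X) := cj_centralizer _ _
  refine quadParamLE_of_elem (B := cj g⁻¹ C) ?_ (isElementaryAbelian_cj _ (isElementaryAbelian_mono hB hCB)) ?_ ?_ ?_
  · refine le_trans ?_ (pCore_le T)
    rintro _ ⟨c, hc, rfl⟩
    exact pCore_normal.conj_mem c (hBQ (hCB hc)) _
  · intro hcon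
    apply hg
    rw [cj_le_iff, inv_inv, cj_centralizer] at hcon
    exact hcon
  · have := congrArg (cj g⁻¹) hq
    rw [cj_commutator, cj_commutator, cj_inv_cj] at this
    rw [this]
    exact Subgroup.map_bot _
  · rw [← e1, ← e2, ← cj_inf, card_cj, card_cj]
    have e3 : V = cj g⁻¹ (cj g V) := (cj_inv_cj g V).symm
    have e4 : Nat.card V = Nat.card (cj g V) := (card_cj g V).symm
    rw [e4]
    have e5 : Nat.card ↥(V ⊓ cj g⁻¹ (centralizer (C : Set X))) = Nat.card ↥(cj g V ⊓ centralizer (C : Set X)) := by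
      conv_lhs => rw [e3]
      rw [← cj_inf, card_cj]
    rw [e5]
    exact h1

end

end Cfsg.Agent.QrcE
end

-- part: QrcE/CTwo
section
/-!
# S1824, case (e): at most one noncentral chief factor in `U = ⟨V^X⟩`

* `Sit` : the situation;
* `Sit.exists_best` : a quadratic best offender `A ≤ T`, `A ≰ O₂(X)`;
* `exists_chief` : a chief factor at the top of `W = [W, O²(X)]`;
* `Sit.comm_D` : `[D, O²(X)] = 1` for a chief factor `W / D`, `W = [U, O²(X)]`.
-/

set_option autoImplicit false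
set_option linter.unusedVariables false
set_option linter.unusedSectionVars false
set_option linter.style.haveILetI false

namespace Cfsg.Agent.QrcE

open Subgroup Cfsg Cfsg.Agent.MinSimple.MinParabolic Cfsg.Agent.Omega.FFBr Cfsg.Agent.PLocal.ThompsonJ
open Cfsg.Agent.ZN.ChoiceBase (AA)
open scoped commutatorElement

universe u

variable {X : Type u} [Group X]

/-- the situation: `V ≤ O₂(X)`, `U = ⟨V^X⟩` elementary abelian, `q(T, V) > 2` -/
structure Sit (T : Sylow 2 X) (M V : Subgroup X) : Prop where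
  min : IsMin (T : Subgroup X) M
  VQ : V ≤ pCore 2 X
  TV : (T : Subgroup X) ≤ normalizer (V : Set X)
  Uel : IsElementaryAbelian 2 (normalClosure (V : Set X))
  nn : ¬ V.Normal
  noq : ¬ QuadParamLE (T : Subgroup X) V 2

/-- elementary abelian subgroups of `T` of maximal order are best offenders -/
theorem best_of_AA [Finite X] {T U A B : Subgroup X} (hA : A ∈ AA T) (hU : IsElementaryAbelian 2 U) (hUT : U ≤ T)
    (hB : B ≤ A) :
    Nat.card B * Nat.card ↥(U ⊓ centralizer (B : Set X)) ≤ Nat.card A * Nat.card ↥(U ⊓ centralizer (A : Set X)) := by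
  have hBe := isElementaryAbelian_mono hA.1 hB
  have hCe : IsElementaryAbelian 2 (U ⊓ centralizer (B : Set X)) := isElementaryAbelian_mono hU inf_le_left
  have hc : U ⊓ centralizer (B : Set X) ≤ centralizer (B : Set X) := inf_le_right
  rw [← PLocal.ElemAbSup.card_sup_mul_card_inf hc]
  refine Nat.mul_le_mul ?_ ?_
  · exact hA.2.2 _ (PLocal.ElemAbSup.isElementaryAbelian_sup hBe hCe hc) (sup_le (hB.trans hA.2.1) (inf_le_left.trans hUT))
  · refine card_le_of_le (le_inf (inf_le_right.trans inf_le_left) ?_)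
    intro x hx
    rw [mem_centralizer_iff]
    intro a ha
    exact (isElementaryAbelian_iff.1 hA.1).1 a ha x (hB hx.1)

/-- `W / D` with `D` maximal -/
theorem exists_chief [Finite X] {W : Subgroup X} [hW : W.Normal] (hWe : IsElementaryAbelian 2 W)
    (h : ⁅W, OO X⁆ = W) (hne : W ≠ ⊥) : ∃ D : Subgroup X, ∃ _ : D.Normal, Chief D W := by
  obtain ⟨D, hD⟩ := (Set.toFinite {D : Subgroup X | D.Normal ∧ D < W}).exists_maximal
    ⟨⊥, inferInstance, bot_lt_iff_ne_bot.2 hne⟩
  refine ⟨D, hD.prop.1, hD.prop.2.le, fun w hw => ?_, fun N hN hDN hNW => ?_, fun h1 => ?_⟩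
  · rw [← pow_two, hWe.2 w hw]; exact one_mem _
  · by_cases h1 : N = W
    · exact Or.inr h1
    · exact Or.inl (le_antisymm (hD.le_of_ge ⟨hN, lt_of_le_of_ne hNW h1⟩ hDN) hDN)
  · rw [h] at h1
    exact absurd hD.prop.2 (not_lt_of_ge h1)

theorem comm_le_left_of_normal (A B : Subgroup X) [A.Normal] : ⁅A, B⁆ ≤ A := commutator_le_left A B

namespace Sit

variable [Finite X] {T : Sylow 2 X} {M V : Subgroup X} (h : Sit T M V)
include h

theorem U_le : normalClosure (V : Set X) ≤ pCore 2 X := normalClosure_le_normal h.VQ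

theorem U_le_T : normalClosure (V : Set X) ≤ (T : Subgroup X) := h.U_le.trans (pCore_le T)

theorem U_isPGroup : IsPGroup 2 (normalClosure (V : Set X)) := T.isPGroup'.to_le h.U_le_T

/-- `O²(X)` moves `V` -/
theorem not_OO_le : ¬ OO X ≤ normalizer (V : Set X) := by
  intro h1
  apply h.nn
  rw [← normalizer_eq_top_iff, eq_top_iff, ← OO_sup T]
  exact sup_le h1 h.TV

theorem comm_ne : ⁅normalClosure (V : Set X), OO X⁆ ≠ ⊥ := by
  intro h1
  apply h.not_OO_le
  rw [commutator_eq_bot_iff_le_centralizer, le_centralizer_iff] at h1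
  refine h1.trans ((centralizer_le ?_).trans (centralizer_le_normalizer _))
  exact subset_normalClosure

/-- `C_T(U) ≤ O₂(X)` -/
theorem inf_centralizer_le :
    (T : Subgroup X) ⊓ centralizer ((normalClosure (V : Set X) : Subgroup X) : Set X) ≤ pCore 2 X := by
  haveI : (centralizer ((normalClosure (V : Set X) : Subgroup X) : Set X)).Normal := normal_centralizer
  rcases inf_le_or h.min (centralizer ((normalClosure (V : Set X) : Subgroup X) : Set X)) with h1 | h1
  · exact h1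
  · exfalso
    apply h.comm_ne
    rw [commutator_eq_bot_iff_le_centralizer, le_centralizer_iff]
    exact h1

/-- the offender inequality on `U` for a subgroup of `O₂(X)` is impossible -/
theorem no_pass {B : Subgroup X} (hBQ : B ≤ pCore 2 X) (hB : IsElementaryAbelian 2 B)
    (ne : ¬ B ≤ centralizer ((normalClosure (V : Set X) : Subgroup X) : Set X))
    (quad : ⁅⁅normalClosure (V : Set X), B⁆, B⁆ = ⊥)
    (hle : Nat.card ↥(B ⊓ centralizer ((normalClosure (V : Set X) : Subgroup X) : Set X)) ^ 2 *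
        Nat.card (normalClosure (V : Set X)) ≤
      Nat.card B ^ 2 * Nat.card ↥(normalClosure (V : Set X) ⊓ centralizer (B : Set X))) : False :=
  h.noq (pass T hBQ hB ne quad hle)

/-- **a quadratic best offender outside `O₂(X)`** -/
theorem exists_best {A₀ : Subgroup X} (hA₀ : A₀ ∈ AA (T : Subgroup X)) (hA₀Q : ¬ A₀ ≤ pCore 2 X) :
    ∃ A : Subgroup X, A ≤ A₀ ∧ ¬ A ≤ pCore 2 X ∧
      (∀ B : Subgroup X, B ≤ A → Nat.card B * Nat.card ↥(normalClosure (V : Set X) ⊓ centralizer (B : Set X)) ≤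
        Nat.card A * Nat.card ↥(normalClosure (V : Set X) ⊓ centralizer (A : Set X))) ∧
      ⁅⁅normalClosure (V : Set X), A⁆, A⁆ = ⊥ := by
  set U : Subgroup X := normalClosure (V : Set X) with hU
  have hUn : U.Normal := normalClosure_normal
  have hAn : A₀ ≤ normalizer (U : Set X) := by rw [normalizer_eq_top_iff.2 hUn]; exact le_top
  have hbo : IsBestOffenderOn 2 U A₀ := by
    refine ⟨fun B hB => best_of_AA hA₀ h.Uel h.U_le_T hB, ?_, ?_⟩
    · rw [commutator_le]
      intro a ha b hb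
      have h1 : a * b = b * a := isElementaryAbelian_comm hA₀.1 ha hb
      rw [commutatorElement_eq_one_iff_mul_comm.2 h1]
      exact one_mem _
    · intro a ha
      rw [isElementaryAbelian_pow hA₀.1 ha]
      exact one_mem _
  obtain ⟨hb1, -, hb2⟩ := S0599.result U A₀ h.Uel hAn hbo U le_rfl
  set A : Subgroup X := A₀ ⊓ centralizer ((⁅U, A₀⁆ : Subgroup X) : Set X) with hA
  have hAA₀ : A ≤ A₀ := inf_le_left
  have hne0 : ⁅U, A₀⁆ ≠ ⊥ := by
    intro h1
    apply hA₀Q
    refine (le_inf hA₀.2.1 ?_).trans h.inf_centralizer_le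
    rwa [commutator_eq_bot_iff_le_centralizer, le_centralizer_iff] at h1
  have hne := hb2 hne0
  have hquad : ⁅⁅U, A⁆, A⁆ = ⊥ := by
    rw [commutator_eq_bot_iff_le_centralizer, le_centralizer_iff]
    exact inf_le_right.trans (centralizer_le (SetLike.coe_subset_coe.2 (commutator_mono le_rfl hAA₀)))
  refine ⟨A, hAA₀, ?_, hb1.1, hquad⟩
  intro hAQ
  have hnc : ¬ A ≤ centralizer (U : Set X) := by
    intro h1
    apply hne
    rwa [commutator_eq_bot_iff_le_centralizer, le_centralizer_iff]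
  refine h.no_pass hAQ (isElementaryAbelian_mono hA₀.1 hAA₀) hnc hquad ?_
  have h1 := hb1.1 (A ⊓ centralizer (U : Set X)) inf_le_left
  have h2 : U ⊓ centralizer ((A ⊓ centralizer (U : Set X) : Subgroup X) : Set X) = U :=
    inf_eq_left.2 (le_centralizer_iff.1 inf_le_right)
  rw [h2] at h1
  have h3 : Nat.card ↥(A ⊓ centralizer (U : Set X)) ≤ Nat.card A := card_le_of_le inf_le_left
  calc Nat.card ↥(A ⊓ centralizer (U : Set X)) ^ 2 * Nat.card U
      = Nat.card ↥(A ⊓ centralizer (U : Set X)) * (Nat.card ↥(A ⊓ centralizer (U : Set X)) * Nat.card U) := by ring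
    _ ≤ Nat.card A * (Nat.card A * Nat.card ↥(U ⊓ centralizer (A : Set X))) := Nat.mul_le_mul h3 h1
    _ = _ := by ring

/-- **c = 1** -/
theorem comm_D (hFF : AStmt.{u}) {A₀ : Subgroup X} (hA₀ : A₀ ∈ AA (T : Subgroup X)) (hA₀Q : ¬ A₀ ≤ pCore 2 X)
    {D : Subgroup X} [hDn : D.Normal] (hD : Chief D ⁅normalClosure (V : Set X), OO X⁆) : ⁅D, OO X⁆ = ⊥ := by
  set U : Subgroup X := normalClosure (V : Set X) with hU
  haveI hUn : U.Normal := normalClosure_normal
  set W : Subgroup X := ⁅U, OO X⁆ with hW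
  haveI hWn : W.Normal := commutator_normal U (OO X)
  have hWU : W ≤ U := commutator_le_left U (OO X)
  obtain ⟨A, hAA₀, hAQ, hbest, hquad⟩ := h.exists_best hA₀ hA₀Q
  have hAe := isElementaryAbelian_mono hA₀.1 hAA₀
  have hAT : A ≤ (T : Subgroup X) := hAA₀.trans hA₀.2.1
  by_contra hne
  -- the second chief factor
  have hDe : IsElementaryAbelian 2 D := isElementaryAbelian_mono h.Uel (hD.le.trans hWU)
  have hDp : IsPGroup 2 D := h.U_isPGroup.to_le (hD.le.trans hWU)
  haveI hW2n : (⁅D, OO X⁆).Normal := commutator_normal D (OO X)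
  have hW2D : ⁅D, OO X⁆ ≤ D := commutator_le_left D (OO X)
  obtain ⟨D2, hD2n, hD2⟩ := exists_chief (isElementaryAbelian_mono hDe hW2D) (comm_comm_eq hDp) hne
  -- the inequalities
  set e := (pCore 2 X).relIndex A with he
  have h1 := noOver_sec hFF h.min hD hAT hAe
  have h2 := noOver_sec hFF h.min hD2 hAT hAe
  have h3 : (centralizer (A : Set X)).relIndex ⁅D, OO X⁆ ≤ (centralizer (A : Set X)).relIndex D :=
    relIndex_le_of_le_right hW2D (by rw [relIndex]; exact index_ne_zero_of_finite)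
  have h4 : (centralizer (A : Set X)).relIndex W ≤ (centralizer (A : Set X)).relIndex U :=
    relIndex_le_of_le_right hWU (by rw [relIndex]; exact index_ne_zero_of_finite)
  have h5 : 1 ≤ (centralizer (A : Set X)).relIndex D2 := by
    rw [Nat.one_le_iff_ne_zero, relIndex]; exact index_ne_zero_of_finite
  have h6 : e * e ≤ (centralizer (A : Set X)).relIndex U := by
    calc e * e ≤ e * (e * (centralizer (A : Set X)).relIndex D2) :=
          Nat.mul_le_mul_left _ (Nat.le_mul_of_pos_right _ h5)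
      _ ≤ e * (centralizer (A : Set X)).relIndex D := Nat.mul_le_mul_left _ (h2.trans h3)
      _ ≤ _ := h1.trans h4
  -- the orders
  set A1 : Subgroup X := A ⊓ pCore 2 X with hA1
  have ha := card_inf_mul_relIndex A (pCore 2 X)
  have hu := card_inf_mul_relIndex U (centralizer (A : Set X))
  have hz : A ⊓ centralizer (U : Set X) = A1 ⊓ centralizer (U : Set X) := by
    apply le_antisymm
    · refine le_inf (le_inf inf_le_left ?_) inf_le_right
      exact (inf_le_inf_right _ hAT).trans h.inf_centralizer_le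
    · exact inf_le_inf_right _ inf_le_left
  have hb := hbest (A ⊓ centralizer (U : Set X)) inf_le_left
  have hb2 : U ⊓ centralizer ((A ⊓ centralizer (U : Set X) : Subgroup X) : Set X) = U :=
    inf_eq_left.2 (le_centralizer_iff.1 inf_le_right)
  rw [hb2, hz, ← ha] at hb
  have hc : Nat.card ↥(U ⊓ centralizer (A : Set X)) ≤ Nat.card ↥(U ⊓ centralizer (A1 : Set X)) :=
    card_le_of_le (inf_le_inf_left _ (centralizer_le (SetLike.coe_subset_coe.2 inf_le_left)))
  have pz : 0 < Nat.card ↥(A1 ⊓ centralizer (U : Set X)) := Nat.card_pos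
  have pc : 0 < Nat.card ↥(U ⊓ centralizer (A : Set X)) := Nat.card_pos
  have pe : 0 < e := by
    rw [he, Nat.pos_iff_ne_zero, relIndex]; exact index_ne_zero_of_finite
  have hne1 : e ≠ 1 := fun h7 => hAQ (relIndex_eq_one.1 h7)
  set z := Nat.card ↥(A1 ⊓ centralizer (U : Set X)) with hzdef
  set c := Nat.card ↥(U ⊓ centralizer (A : Set X)) with hcdef
  set c0 := Nat.card ↥(U ⊓ centralizer (A1 : Set X)) with hc0def
  set a0 := Nat.card A1 with ha0def
  set u := Nat.card U with hudef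
  -- `z e ≤ a0`
  have h7 : z * e ≤ a0 := by
    have h8 : z * (c * (e * e)) ≤ a0 * e * c := by
      refine le_trans ?_ hb
      rw [← hu]
      exact Nat.mul_le_mul_left _ (Nat.mul_le_mul_left _ h6)
    refine Nat.le_of_mul_le_mul_right (c := e * c) ?_ (Nat.mul_pos pe pc)
    calc z * e * (e * c) = z * (c * (e * e)) := by ring
      _ ≤ a0 * e * c := h8
      _ = _ := by ring
  refine h.no_pass (B := A1) inf_le_right (isElementaryAbelian_mono hAe inf_le_left) ?_ ?_ ?_
  · intro h8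
    have h9 : z = a0 := by rw [hzdef, ha0def, inf_eq_left.2 h8]
    rw [h9] at h7
    have h10 : 0 < a0 := Nat.card_pos
    have h11 : e ≤ 1 := Nat.le_of_mul_le_mul_left (by linarith) h10
    omega
  · refine le_bot_iff.1 ?_
    rw [← hquad]
    exact commutator_mono (commutator_mono le_rfl inf_le_left) inf_le_left
  · calc z ^ 2 * u = z * (z * u) := by ring
      _ ≤ z * (a0 * e * c) := Nat.mul_le_mul_left _ hb
      _ = (z * e) * (a0 * c) := by ring
      _ ≤ a0 * (a0 * c0) := Nat.mul_le_mul h7 (Nat.mul_le_mul_left _ hc)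
      _ = _ := by ring

end Sit

end Cfsg.Agent.QrcE
end

-- part: QrcE/Nab
section
/-!
# S1824: `J(T) ≰ C(V)` and `⟨V^X⟩` nonabelian

* `quad_of_AA` : `V ≤ T` elementary abelian, normal in `T`, `A ∈ 𝒜(T)`, `A ≰ C(V)`; then `q(T, V) ≤ 2`;
* `quad_of_pair` : `V` and `V^g` normalise each other, `[V, V^g] ≠ 1`, `V ≤ T ∩ T^g ≥ V^g`: `q(T, V) ≤ 2`;
* `Uel_of` : if the conjugates of `V` commute with `V` then `⟨V^X⟩` is elementary abelian.
-/

set_option autoImplicit false
set_option linter.unusedVariables false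

namespace Cfsg.Agent.QrcE

open Subgroup Cfsg Cfsg.Agent.MinSimple.MinParabolic Cfsg.Agent.PLocal.ThompsonJ
open Cfsg.Agent.ZN.ChoiceBase (AA cj mem_cj cj_mono cj_le_iff cj_inv_cj cj_cj_inv card_cj cj_inf cj_centralizer
  isElementaryAbelian_cj mem_normalizer_iff_cj cj_cj cj_one)
open scoped commutatorElement

universe u

variable {X : Type u} [Group X]

theorem quad_of_AA [Finite X] {T V A : Subgroup X} (hV : IsElementaryAbelian 2 V) (hVT : V ≤ T)
    (hTV : T ≤ normalizer (V : Set X)) (hA : A ∈ AA T) (hne : ¬ A ≤ centralizer (V : Set X)) :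
    QuadParamLE T V 2 := by
  have hAn : A ≤ normalizer (V : Set X) := hA.2.1.trans hTV
  have hbo : IsBestOffenderOn 2 V A := by
    refine ⟨fun B hB => best_of_AA hA hV hVT hB, ?_, ?_⟩
    · rw [commutator_le]
      intro a ha b hb
      have h1 : a * b = b * a := isElementaryAbelian_comm hA.1 ha hb
      rw [commutatorElement_eq_one_iff_mul_comm.2 h1]
      exact one_mem _
    · intro a ha
      rw [isElementaryAbelian_pow hA.1 ha]
      exact one_mem _
  obtain ⟨hb1, -, hb2⟩ := S0599.result V A hV hAn hbo V le_rfl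
  set B : Subgroup X := A ⊓ centralizer ((⁅V, A⁆ : Subgroup X) : Set X) with hB
  have hBA : B ≤ A := inf_le_left
  have hne0 : ⁅V, A⁆ ≠ ⊥ := by
    intro h1
    apply hne
    rwa [commutator_eq_bot_iff_le_centralizer, le_centralizer_iff] at h1
  have hne1 := hb2 hne0
  have hquad : ⁅⁅V, B⁆, B⁆ = ⊥ := by
    rw [commutator_eq_bot_iff_le_centralizer, le_centralizer_iff]
    exact inf_le_right.trans (centralizer_le (SetLike.coe_subset_coe.2 (commutator_mono le_rfl hBA)))
  have hnc : ¬ B ≤ centralizer (V : Set X) := by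
    intro h1
    apply hne1
    rwa [commutator_eq_bot_iff_le_centralizer, le_centralizer_iff]
  refine quadParamLE_of_elem (hBA.trans hA.2.1) (isElementaryAbelian_mono hA.1 hBA) hnc hquad ?_
  have h1 := hb1.1 (B ⊓ centralizer (V : Set X)) inf_le_left
  have h2 : V ⊓ centralizer ((B ⊓ centralizer (V : Set X) : Subgroup X) : Set X) = V :=
    inf_eq_left.2 (le_centralizer_iff.1 inf_le_right)
  rw [h2] at h1
  have h3 : Nat.card ↥(B ⊓ centralizer (V : Set X)) ≤ Nat.card B := card_le_of_le inf_le_left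
  calc Nat.card ↥(B ⊓ centralizer (V : Set X)) ^ 2 * Nat.card V
      = Nat.card ↥(B ⊓ centralizer (V : Set X)) * (Nat.card ↥(B ⊓ centralizer (V : Set X)) * Nat.card V) := by ring
    _ ≤ Nat.card B * (Nat.card B * Nat.card ↥(V ⊓ centralizer (B : Set X))) := Nat.mul_le_mul h3 h1
    _ = _ := by ring

/-- two elementary abelian groups `V`, `W` of the same order normalising each other, `|V : C_V(W)| ≤ |W : C_W(V)|` -/
theorem quad_of_le [Finite X] {T V W : Subgroup X} (hW : IsElementaryAbelian 2 W) (hWT : W ≤ T)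
    (hcard : Nat.card V = Nat.card W) (hVW : V ≤ normalizer (W : Set X)) (hWV : W ≤ normalizer (V : Set X))
    (hne : ¬ W ≤ centralizer (V : Set X))
    (hle : Nat.card ↥(W ⊓ centralizer (V : Set X)) ≤ Nat.card ↥(V ⊓ centralizer (W : Set X))) :
    QuadParamLE T V 2 := by
  have hcW : ⁅V, W⁆ ≤ W := by
    rw [commutator_le]
    intro v hv w hw
    rw [commutatorElement_def]
    exact mul_mem ((mem_normalizer_iff.1 (hVW hv) w).1 hw) (inv_mem hw)
  have hquad : ⁅⁅V, W⁆, W⁆ = ⊥ := by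
    rw [comm_eq_bot_iff]
    intro a ha b hb
    exact isElementaryAbelian_comm hW (hcW ha) hb
  refine quadParamLE_of_elem hWT hW hne hquad ?_
  have h3 : Nat.card ↥(W ⊓ centralizer (V : Set X)) ≤ Nat.card W := card_le_of_le inf_le_left
  rw [hcard]
  calc Nat.card ↥(W ⊓ centralizer (V : Set X)) ^ 2 * Nat.card W
      = Nat.card ↥(W ⊓ centralizer (V : Set X)) * Nat.card W * Nat.card ↥(W ⊓ centralizer (V : Set X)) := by ring
    _ ≤ Nat.card W * Nat.card W * Nat.card ↥(V ⊓ centralizer (W : Set X)) :=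
        Nat.mul_le_mul (Nat.mul_le_mul_right _ h3) hle
    _ = _ := by ring

theorem quad_of_pair [Finite X] {T V : Subgroup X} {g : X} (hV : IsElementaryAbelian 2 V)
    (h1 : cj g V ≤ T) (h2 : cj g⁻¹ V ≤ T) (h3 : cj g V ≤ normalizer (V : Set X))
    (h4 : cj g⁻¹ V ≤ normalizer (V : Set X))
    (hne : ¬ cj g V ≤ centralizer (V : Set X)) : QuadParamLE T V 2 := by
  have e1 : cj g (normalizer (V : Set X)) = normalizer ((cj g V : Subgroup X) : Set X) :=
    ZN.ChoiceBase.cj_normalizer g V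
  have e2 : cj g⁻¹ (normalizer (V : Set X)) = normalizer ((cj g⁻¹ V : Subgroup X) : Set X) :=
    ZN.ChoiceBase.cj_normalizer g⁻¹ V
  have h5 : V ≤ normalizer ((cj g V : Subgroup X) : Set X) := by
    rw [← e1]
    have := cj_mono g h4
    rwa [cj_cj_inv] at this
  have h6 : V ≤ normalizer ((cj g⁻¹ V : Subgroup X) : Set X) := by
    rw [← e2]
    have := cj_mono g⁻¹ h3
    rwa [cj_inv_cj] at this
  rcases le_total (Nat.card ↥(cj g V ⊓ centralizer (V : Set X)))
    (Nat.card ↥(V ⊓ centralizer ((cj g V : Subgroup X) : Set X))) with h | h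
  · exact quad_of_le (isElementaryAbelian_cj g hV) h1 (card_cj g V).symm h5 h3 hne h
  · refine quad_of_le (isElementaryAbelian_cj g⁻¹ hV) h2 (card_cj g⁻¹ V).symm h6 h4 ?_ ?_
    · intro hcon
      apply hne
      rw [cj_le_iff, inv_inv, cj_centralizer] at hcon
      exact le_centralizer_iff.1 hcon
    · have e3 : cj g⁻¹ (V ⊓ centralizer ((cj g V : Subgroup X) : Set X)) =
          cj g⁻¹ V ⊓ centralizer (V : Set X) := by
        rw [cj_inf, cj_centralizer, cj_inv_cj]
      have e4 : cj g⁻¹ (cj g V ⊓ centralizer (V : Set X)) =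
          V ⊓ centralizer ((cj g⁻¹ V : Subgroup X) : Set X) := by
        rw [cj_inf, cj_centralizer, cj_inv_cj]
      rw [← e3, ← e4, card_cj, card_cj]
      exact h

/-- if all conjugates of `V` commute with `V` then `⟨V^X⟩` is elementary abelian -/
theorem Uel_of {V : Subgroup X} (hV : IsElementaryAbelian 2 V)
    (h : ∀ g : X, cj g V ≤ centralizer (V : Set X)) : IsElementaryAbelian 2 (normalClosure (V : Set X)) := by
  have h1 : normalClosure (V : Set X) ≤ centralizer (V : Set X) := by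
    rw [normalClosure, closure_le]
    intro y hy
    obtain ⟨v, hv, hvy⟩ := Group.mem_conjugatesOfSet_iff.1 hy
    obtain ⟨g, rfl⟩ := isConj_iff.1 hvy
    exact h g ⟨v, hv, rfl⟩
  have h2 : normalClosure (V : Set X) ≤ centralizer ((normalClosure (V : Set X) : Subgroup X) : Set X) := by
    haveI : (centralizer ((normalClosure (V : Set X) : Subgroup X) : Set X)).Normal := normal_centralizer
    exact normalClosure_le_normal (le_centralizer_iff.1 h1)
  have hc : ∀ x ∈ normalClosure (V : Set X), ∀ y ∈ normalClosure (V : Set X), x * y = y * x :=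
    fun x hx y hy => (mem_centralizer_iff.1 (h2 hx) y hy).symm
  rw [isElementaryAbelian_iff]
  refine ⟨hc, ?_⟩
  intro x hx
  induction hx using Subgroup.closure_induction with
  | mem y hy =>
    obtain ⟨v, hv, hvy⟩ := Group.mem_conjugatesOfSet_iff.1 hy
    obtain ⟨g, rfl⟩ := isConj_iff.1 hvy
    rw [conj_pow, isElementaryAbelian_pow hV hv]
    simp
  | one => simp
  | mul a b ha hb iha ihb =>
    rw [(show Commute a b from hc a ha b hb).mul_pow, iha, ihb, mul_one]
  | inv a ha iha => rw [inv_pow, iha, inv_one]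

end Cfsg.Agent.QrcE
end

-- part: QrcE/Trans
section
/-!
# S1824: between `G` and a subgroup `H`
-/

set_option autoImplicit false
set_option linter.unusedVariables false
set_option linter.style.haveILetI false

namespace Cfsg.Agent.QrcE

open Subgroup Cfsg Cfsg.Agent.MinSimple.MinParabolic Cfsg.Agent.PLocal.ThompsonJ
open Cfsg.Agent.ZN (o2 jj)
open Cfsg.Agent.ZN.ChoiceSit
open Cfsg.Agent.ZN.ChoiceBase (AA cj mem_cj cj_mono cj_le_iff cj_inv_cj cj_cj_inv card_cj cj_inf cj_centralizer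
  isElementaryAbelian_cj mem_normalizer_iff_cj cj_cj cj_one)
open Cfsg.Agent.MinSimple.VModule (oddGen mem_oddGen oddGen_le le_normalizer_oddGen)
open scoped commutatorElement

universe u

variable {G : Type u} [Group G]

theorem comap_centralizer_map {H : Subgroup G} (W : Subgroup H) :
    (centralizer ((W.map H.subtype : Subgroup G) : Set G)).comap H.subtype = centralizer (W : Set H) := by
  ext x
  simp only [mem_comap, mem_centralizer_iff]
  constructor
  · intro h y hy
    exact Subtype.ext (h y ⟨y, hy, rfl⟩)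
  · rintro h _ ⟨y, hy, rfl⟩
    exact congrArg Subtype.val (h y hy)

theorem centralizer_subgroupOf {H V : Subgroup G} (hVH : V ≤ H) :
    centralizer ((V.subgroupOf H : Subgroup H) : Set H) = (centralizer (V : Set G)).subgroupOf H := by
  rw [← comap_centralizer_map, map_subgroupOf_eq_of_le hVH]
  rfl

theorem map_le_centralizer_iff {H : Subgroup G} {B W : Subgroup H} :
    B.map H.subtype ≤ centralizer ((W.map H.subtype : Subgroup G) : Set G) ↔ B ≤ centralizer (W : Set H) := by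
  rw [map_le_iff_le_comap, comap_centralizer_map]

theorem quad_map {H T V : Subgroup G} {r : ℕ} (hVH : V ≤ H)
    (h : QuadParamLE (T.subgroupOf H) (V.subgroupOf H) r) : QuadParamLE T V r := by
  obtain ⟨B, hBT, ⟨h1, h2, h3⟩, h4, h5⟩ := h
  set W : Subgroup H := V.subgroupOf H with hW
  have hV : V = W.map H.subtype := (map_subgroupOf_eq_of_le hVH).symm
  refine ⟨B.map H.subtype, ?_, ⟨?_, ?_, ?_⟩, ?_, ?_⟩
  · rw [map_le_iff_le_comap]; exact hBT
  · rw [hV, map_le_centralizer_iff]; exact h1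
  · rintro _ ⟨b, hb, rfl⟩
    have := h2 b hb
    rw [← comap_centralizer_map, ← hV] at this
    exact this
  · rintro _ ⟨b, hb, rfl⟩ _ ⟨c, hc, rfl⟩
    have := h3 b hb c hc
    rw [← comap_centralizer_map, ← hV] at this
    exact this
  · rw [hV, ← map_commutator, ← map_commutator, h4, Subgroup.map_bot]
  · have e1 : (V ⊓ centralizer ((B.map H.subtype : Subgroup G) : Set G)).relIndex V =
        (W ⊓ centralizer (B : Set H)).relIndex W := by
      conv_lhs => rw [hV]
      rw [← relIndex_comap, Subgroup.comap_inf, comap_centralizer_map,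
        comap_map_eq_self_of_injective H.subtype_injective]
    have e2 : (centralizer (V : Set G)).relIndex (B.map H.subtype) = (centralizer (W : Set H)).relIndex B := by
      rw [← relIndex_comap, hV, comap_centralizer_map]
    rw [e1, e2]
    exact h5

theorem quad_mono {X Y V : Subgroup G} {r : ℕ} (hXY : X ≤ Y) (h : QuadParamLE X V r) : QuadParamLE Y V r := by
  obtain ⟨B, hB, h1⟩ := h
  exact ⟨B, hB.trans hXY, h1⟩

theorem cubic_mono {X Y V : Subgroup G} {r : ℕ} (hXY : X ≤ Y) (h : CubicParamLE X V r) : CubicParamLE Y V r := by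
  obtain ⟨B, hB, h1⟩ := h
  exact ⟨B, hB.trans hXY, h1⟩

theorem mem_AA_sub {H T : Subgroup G} (hTH : T ≤ H) {A : Subgroup H} :
    A ∈ AA (T.subgroupOf H) ↔ A.map H.subtype ∈ AA T := by
  constructor
  · rintro ⟨h1, h2, h3⟩
    refine ⟨isElementaryAbelian_map h1 _, ?_, fun B hB hBT => ?_⟩
    · rw [map_le_iff_le_comap]; exact h2
    · rw [card_map_injective _ H.subtype_injective]
      have h4 := h3 (B.subgroupOf H) (isElementaryAbelian_comap hB H.subtype_injective) (fun x hx => hBT hx)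
      rwa [Nat.card_congr (Subgroup.subgroupOfEquivOfLe (hBT.trans hTH)).toEquiv] at h4
  · rintro ⟨h1, h2, h3⟩
    refine ⟨?_, fun x hx => h2 ⟨x, hx, rfl⟩, fun B hB hBT => ?_⟩
    · have := isElementaryAbelian_comap h1 H.subtype_injective
      rwa [comap_map_eq_self_of_injective H.subtype_injective] at this
    · have h4 := h3 (B.map H.subtype) (isElementaryAbelian_map hB _) (by
        rw [map_le_iff_le_comap]; exact hBT)
      rwa [card_map_injective _ H.subtype_injective, card_map_injective _ H.subtype_injective] at h4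

theorem OO_map (H : Subgroup G) : (OO ↥H).map H.subtype = oddGen H := by
  rw [OO, MonoidHom.map_closure, oddGen]
  congr 1
  ext x
  constructor
  · rintro ⟨y, hy, rfl⟩
    exact ⟨y.2, by simpa using hy⟩
  · rintro ⟨h1, h2⟩
    exact ⟨⟨x, h1⟩, by simpa using h2, rfl⟩

theorem le_o2_iff {H V : Subgroup G} (hVH : V ≤ H) : V.subgroupOf H ≤ pCore 2 ↥H ↔ V ≤ o2 H := by
  constructor
  · intro h v hv
    exact ⟨⟨v, hVH hv⟩, h hv, rfl⟩
  · intro h v hv
    obtain ⟨y, hy, hyv⟩ := h hv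
    rwa [← Subtype.ext hyv]

theorem normal_subgroupOf_iff' {H V : Subgroup G} (hVH : V ≤ H) :
    (V.subgroupOf H).Normal ↔ H ≤ normalizer (V : Set G) := by
  constructor
  · intro h x hx
    rw [mem_normalizer_iff]
    intro v
    constructor
    · intro hv
      exact h.conj_mem ⟨v, hVH hv⟩ hv ⟨x, hx⟩
    · intro hv
      have h1 := h.conj_mem ⟨x * v * x⁻¹, hVH hv⟩ hv ⟨x⁻¹, inv_mem hx⟩
      have h2 : x⁻¹ * (x * v * x⁻¹) * x⁻¹⁻¹ = v := by group
      change x⁻¹ * (x * v * x⁻¹) * x⁻¹⁻¹ ∈ V at h1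
      rwa [h2] at h1
  · intro h
    refine ⟨fun v hv x => ?_⟩
    exact (mem_normalizer_iff.1 (h x.2) v).1 hv

/-- the Sylow condition of S1823 -/
theorem syl_of_inf_le [Finite G] {T R H : Subgroup G} (hT : Syl T H) (hRT : R ≤ T)
    (hTR : T ≤ normalizer (R : Set G))
    (h : T ⊓ oddGen H ≤ R) : Syl R (oddGen H ⊔ R) := by
  have hRH : R ≤ H := hRT.trans hT.1
  have hNH : oddGen H ≤ H := oddGen_le H
  have hRN : R ≤ normalizer (oddGen H : Set G) := hRH.trans (le_normalizer_oddGen H)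
  refine ⟨le_sup_right, hT.2.1.to_le hRT, fun P hP hP2 hRP => ?_⟩
  have hPH : P ≤ H := hP.trans (sup_le hNH hRH)
  -- conjugate `P` into `T`
  obtain ⟨S, hS, hPS⟩ := exists_syl hP2 hPH
  obtain ⟨x, hx, hxS⟩ := syl_conj hS hT
  have hN : cj x (oddGen H) = oddGen H := mem_normalizer_iff_cj.1 (le_normalizer_oddGen H hx)
  have h1 : cj x (P ⊓ oddGen H) ≤ T ⊓ oddGen H := by
    rw [cj_inf, hN]
    exact inf_le_inf_right _ ((cj_mono x hPS).trans hxS.le)
  have h2 : Nat.card ↥(P ⊓ oddGen H) ≤ Nat.card ↥(R ⊓ oddGen H) := by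
    rw [← card_cj x]
    exact card_le_of_le (h1.trans (le_inf h inf_le_right))
  have h3 : R ⊓ oddGen H = P ⊓ oddGen H :=
    eq_of_le_of_card_ge (inf_le_inf_right _ hRP) h2
  refine le_antisymm ?_ hRP
  intro p hp
  have hp1 : p ∈ R ⊔ oddGen H := by rw [sup_comm]; exact hP hp
  rw [← SetLike.mem_coe, coe_mul_of_left_le_normalizer_right R (oddGen H) hRN] at hp1
  obtain ⟨r, hr, n, hn, hrn⟩ := hp1
  have hnP : n ∈ P ⊓ oddGen H := by
    refine ⟨?_, hn⟩
    have : n = r⁻¹ * p := by rw [← hrn]; group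
    rw [this]
    exact P.mul_mem (P.inv_mem (hRP hr)) hp
  rw [← h3] at hnP
  rw [← hrn]
  exact R.mul_mem hr hnP.1

end Cfsg.Agent.QrcE
end

-- part: QrcE/Pair
section
/-!
# S1824: counting with a pairing

`χ g` is a family of characters of `H` trivial on `N`, `χ g = χ g'` implies `g⁻¹ g' ∈ C`; then `|G : C| ≤ |H : N|`.
-/

set_option autoImplicit false

namespace Cfsg.Agent.QrcE

open Subgroup

theorem pairing_index {G H : Type*} [Group G] [Group H] [Finite H] (χ : G → (H →* ℚ)) (C : Subgroup G)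
    (N : Subgroup H) [N.Normal] (hC : ∀ g g' : G, χ g = χ g' → g⁻¹ * g' ∈ C) (hN : ∀ g : G, ∀ h ∈ N, χ g h = 1) :
    C.index ≤ N.index := by
  classical
  let ψ : G → (H ⧸ N →* ℚ) := fun g => QuotientGroup.lift N (χ g) (hN g)
  have hψ : ∀ g g', ψ g = ψ g' → g⁻¹ * g' ∈ C := by
    intro g g' h
    refine hC g g' (MonoidHom.ext fun x => ?_)
    have := DFunLike.congr_fun h (QuotientGroup.mk x)
    exact this
  let f : G ⧸ C → (H ⧸ N →* ℚ) := fun x => ψ x.out
  have hf : Function.Injective f := by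
    intro x y hxy
    have h1 := hψ _ _ hxy
    rw [← QuotientGroup.out_eq' x, ← QuotientGroup.out_eq' y]
    exact QuotientGroup.eq.2 h1
  have hlin : LinearIndependent ℚ (fun x : G ⧸ C => ((f x : H ⧸ N →* ℚ) : H ⧸ N → ℚ)) :=
    (linearIndependent_monoidHom (H ⧸ N) ℚ).comp f hf
  haveI : Fintype (H ⧸ N) := Fintype.ofFinite _
  haveI : Finite (G ⧸ C) := hlin.finite
  haveI : Fintype (G ⧸ C) := Fintype.ofFinite _
  have h1 := hlin.fintype_card_le_finrank
  rw [Module.finrank_fintype_fun_eq_card] at h1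
  rw [index_eq_card, index_eq_card, Nat.card_eq_fintype_card, Nat.card_eq_fintype_card]
  exact h1

end Cfsg.Agent.QrcE
end

-- part: QrcE/COne
section
/-!
# S1824, case (e): one noncentral chief factor

`U = ⟨V^X⟩`, `Q = O₂(X)`, `L = O²(X)`, `W = [U, L]`, `W / D` a chief factor, `[D, L] = 1`.

* `Sit.comm_E` : `[U, Q, L] = 1`;
* `Sit.comm_B` : `[U, [Q, L]] = 1`;
* `Sit.comm_WQ` : `[W, Q] = 1`.
-/

set_option autoImplicit false
set_option linter.unusedVariables false
set_option linter.unusedSectionVars false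
set_option linter.style.haveILetI false

namespace Cfsg.Agent.QrcE

open Subgroup Cfsg Cfsg.Agent.MinSimple.MinParabolic Cfsg.Agent.Omega.FFBr Cfsg.Agent.PLocal.ThompsonJ
open Cfsg.Agent.ZN.ChoiceBase (AA cj)
open scoped commutatorElement

universe u

variable {X : Type u} [Group X]

theorem sup_comm_le {A B C N : Subgroup X} [N.Normal] (h1 : ⁅A, C⁆ ≤ N) (h2 : ⁅B, C⁆ ≤ N) : ⁅A ⊔ B, C⁆ ≤ N :=
  (Lib.Cores.sup_commutator_le_iff A B C).2 ⟨h1, h2⟩

namespace Sit

variable [Finite X] {T : Sylow 2 X} {M V : Subgroup X} (h : Sit T M V)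
include h

/-- `U = V [U, L]` -/
theorem U_le_sup : normalClosure (V : Set X) ≤ V ⊔ ⁅normalClosure (V : Set X), OO X⁆ := by
  set U : Subgroup X := normalClosure (V : Set X) with hU
  haveI hUn : U.Normal := normalClosure_normal
  have hW : (⁅U, OO X⁆).Normal := commutator_normal U (OO X)
  have hVU : V ≤ U := subset_normalClosure
  have hn : (V ⊔ ⁅U, OO X⁆).Normal := by
    rw [← normalizer_eq_top_iff, eq_top_iff, ← OO_sup T]
    refine sup_le ?_ ?_
    · intro l hl
      have key : ∀ l ∈ OO X, ∀ y ∈ V ⊔ ⁅U, OO X⁆, l * y * l⁻¹ ∈ V ⊔ ⁅U, OO X⁆ := by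
        intro l hl y hy
        obtain ⟨v, hv, w, hw, rfl⟩ := mem_sup_of_normal_right.1 hy
        have e : l * (v * w) * l⁻¹ = v * (⁅v⁻¹, l⁆ * (l * w * l⁻¹)) := by
          rw [commutatorElement_def]; group
        rw [e]
        refine mul_mem (mem_sup_left hv) (mem_sup_right (mul_mem ?_ (hW.conj_mem _ hw l)))
        exact commutator_mem_commutator (inv_mem (hVU hv)) hl
      rw [mem_normalizer_iff]
      refine fun y => ⟨key l hl y, fun hy => ?_⟩
      have := key l⁻¹ (inv_mem hl) _ hy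
      have e : l⁻¹ * (l * y * l⁻¹) * l⁻¹⁻¹ = y := by group
      rwa [e] at this
    · intro t ht
      have h1 := h.TV ht
      rw [mem_normalizer_iff_map_conj_eq, Subgroup.map_sup, mem_normalizer_iff_map_conj_eq.1 h1]
      congr 1
      exact mem_normalizer_iff_map_conj_eq.1 ((normalizer_eq_top_iff.2 hW) ▸ mem_top t)
  exact normalClosure_le_normal (fun v hv => mem_sup_left hv)

/-- `U = V [U, Q]` is impossible -/
theorem not_le_sup_comm : ¬ normalClosure (V : Set X) ≤ V ⊔ ⁅normalClosure (V : Set X), pCore 2 X⁆ := by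
  intro h1
  set U : Subgroup X := normalClosure (V : Set X) with hU
  set Q : Subgroup X := pCore 2 X with hQ
  haveI hUn : U.Normal := normalClosure_normal
  have hVU : V ≤ U := subset_normalClosure
  have hUQ : U ≤ Q := h.U_le
  have hnil : Group.IsNilpotent Q := (T.isPGroup'.to_le (pCore_le T)).isNilpotent
  have hQV : Q ≤ normalizer (V : Set X) := (pCore_le T).trans h.TV
  haveI : (V.subgroupOf Q).Normal := normal_subgroupOf_of_le_normalizer hQV
  have h2 : U.subgroupOf Q ≤ V.subgroupOf Q ⊔ ⁅U.subgroupOf Q, (⊤ : Subgroup Q)⁆ := by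
    have e1 : (⁅U.subgroupOf Q, (⊤ : Subgroup Q)⁆).map Q.subtype = ⁅U, Q⁆ := by
      rw [map_commutator, subgroupOf_map_subtype, inf_eq_left.2 hUQ]
      congr 1
      rw [← MonoidHom.range_eq_map, range_subtype]
    have e2 : (V.subgroupOf Q ⊔ ⁅U.subgroupOf Q, (⊤ : Subgroup Q)⁆).map Q.subtype = V ⊔ ⁅U, Q⁆ := by
      rw [Subgroup.map_sup, e1, subgroupOf_map_subtype, inf_eq_left.2 (hVU.trans hUQ)]
    have h3 : (U.subgroupOf Q).map Q.subtype ≤
        (V.subgroupOf Q ⊔ ⁅U.subgroupOf Q, (⊤ : Subgroup Q)⁆).map Q.subtype := by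
      rw [e2, subgroupOf_map_subtype, inf_eq_left.2 hUQ]
      exact h1
    exact (map_le_map_iff_of_injective Q.subtype_injective).1 h3
  have h3 := Lib.Hyperfocal.le_of_le_sup_commutator h2
  have h4 : U ≤ V := by
    intro x hx
    exact h3 (show (⟨x, hUQ hx⟩ : Q) ∈ U.subgroupOf Q from hx)
  apply h.nn
  have h5 : V = U := le_antisymm hVU h4
  rw [h5]
  exact hUn

/-- `[U, Q, L] = 1` -/
theorem comm_E {D : Subgroup X} [hDn : D.Normal] (hD : Chief D ⁅normalClosure (V : Set X), OO X⁆)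
    (hDL : ⁅D, OO X⁆ = ⊥) : ⁅⁅normalClosure (V : Set X), pCore 2 X⁆, OO X⁆ = ⊥ := by
  by_contra hne
  set U : Subgroup X := normalClosure (V : Set X) with hU
  haveI hUn : U.Normal := normalClosure_normal
  haveI hWn : (⁅U, OO X⁆).Normal := commutator_normal U (OO X)
  haveI hEn : (⁅U, pCore 2 X⁆).Normal := commutator_normal U (pCore 2 X)
  haveI hPn : (⁅⁅U, pCore 2 X⁆, OO X⁆).Normal := commutator_normal _ (OO X)
  have hEU : ⁅U, pCore 2 X⁆ ≤ U := commutator_le_left _ _
  have hPW : ⁅⁅U, pCore 2 X⁆, OO X⁆ ≤ ⁅U, OO X⁆ := commutator_mono hEU le_rfl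
  have hPp : ⁅⁅⁅U, pCore 2 X⁆, OO X⁆, OO X⁆ = ⁅⁅U, pCore 2 X⁆, OO X⁆ :=
    comm_comm_eq (h.U_isPGroup.to_le hEU)
  have hPD : ¬ ⁅⁅U, pCore 2 X⁆, OO X⁆ ≤ D := by
    intro h1
    apply hne
    rw [← hPp, eq_bot_iff, ← hDL]
    exact commutator_mono h1 le_rfl
  have hsup : ⁅⁅U, pCore 2 X⁆, OO X⁆ ⊔ D = ⁅U, OO X⁆ := by
    rcases hD.irr (⁅⁅U, pCore 2 X⁆, OO X⁆ ⊔ D) inferInstance le_sup_right (sup_le hPW hD.le) with h1 | h1
    · exact absurd (le_sup_left.trans h1.le) hPD
    · exact h1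
  have hWW : ⁅⁅U, OO X⁆, OO X⁆ = ⁅U, OO X⁆ := comm_comm_eq h.U_isPGroup
  have hWE : ⁅U, OO X⁆ ≤ ⁅U, pCore 2 X⁆ := by
    calc ⁅U, OO X⁆ = ⁅⁅U, OO X⁆, OO X⁆ := hWW.symm
      _ = ⁅⁅⁅U, pCore 2 X⁆, OO X⁆ ⊔ D, OO X⁆ := by rw [hsup]
      _ ≤ ⁅⁅U, pCore 2 X⁆, OO X⁆ := sup_comm_le hPp.le (by rw [hDL]; exact bot_le)
      _ ≤ ⁅U, pCore 2 X⁆ := commutator_le_left _ _
  exact h.not_le_sup_comm (h.U_le_sup.trans (sup_le_sup_left hWE _))

theorem comm_B_aux {D : Subgroup X} [hDn : D.Normal] (hD : Chief D ⁅normalClosure (V : Set X), OO X⁆)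
    (hDL : ⁅D, OO X⁆ = ⊥) : ⁅⁅OO X, pCore 2 X⁆, ⁅normalClosure (V : Set X), pCore 2 X⁆⁆ = ⊥ ∧
      ∀ Z : Subgroup X, Z ≤ normalClosure (V : Set X) → ⁅Z, OO X⁆ = ⊥ → ⁅⁅OO X, pCore 2 X⁆, Z⁆ = ⊥ := by
  set U : Subgroup X := normalClosure (V : Set X) with hU
  haveI hUn : U.Normal := normalClosure_normal
  haveI hEn : (⁅U, pCore 2 X⁆).Normal := commutator_normal U (pCore 2 X)
  have hE := h.comm_E hD hDL
  have hEU : ⁅U, pCore 2 X⁆ ≤ U := commutator_le_left _ _
  have key : ∀ Z : Subgroup X, Z ≤ U → ⁅Z, OO X⁆ = ⊥ → ⁅⁅OO X, pCore 2 X⁆, Z⁆ = ⊥ := by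
    intro Z hZ hZL
    refine commutator_commutator_eq_bot_of_rotate ?_ ?_
    · rw [eq_bot_iff, ← hE]
      refine commutator_mono ?_ le_rfl
      rw [commutator_comm]
      exact commutator_mono hZ le_rfl
    · rw [hZL, commutator_bot_left]
  exact ⟨key _ hEU hE, key⟩

/-- `[U, [Q, L]] = 1` -/
theorem comm_B {D : Subgroup X} [hDn : D.Normal] (hD : Chief D ⁅normalClosure (V : Set X), OO X⁆)
    (hDL : ⁅D, OO X⁆ = ⊥) : ⁅normalClosure (V : Set X), ⁅pCore 2 X, OO X⁆⁆ = ⊥ := by
  classical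
  by_contra hne
  obtain ⟨hBE, hBZ⟩ := h.comm_B_aux hD hDL
  have hE := h.comm_E hD hDL
  set U : Subgroup X := normalClosure (V : Set X) with hU
  set Q : Subgroup X := pCore 2 X with hQ
  haveI hUn : U.Normal := normalClosure_normal
  haveI hWn : (⁅U, OO X⁆).Normal := commutator_normal U (OO X)
  haveI hEn : (⁅U, Q⁆).Normal := commutator_normal U Q
  set B : Subgroup X := ⁅Q, OO X⁆ with hB
  haveI hBn : B.Normal := commutator_normal Q (OO X)
  have hQp : IsPGroup 2 Q := T.isPGroup'.to_le (pCore_le T)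
  have hBQ : B ≤ Q := commutator_le_left _ _
  have hBB : ⁅B, OO X⁆ = B := comm_comm_eq hQp
  rw [commutator_comm (OO X) Q] at hBE
  have hBZ' : ∀ Z : Subgroup X, Z ≤ U → ⁅Z, OO X⁆ = ⊥ → ⁅B, Z⁆ = ⊥ := fun Z hZ hZL => by
    have := hBZ Z hZ hZL
    rwa [commutator_comm (OO X) Q] at this
  have hVU : V ≤ U := subset_normalClosure
  haveI hE1n : (⁅U, B⁆).Normal := commutator_normal U B
  have hE1E : ⁅U, B⁆ ≤ ⁅U, Q⁆ := commutator_mono le_rfl hBQ
  have hEU : ⁅U, Q⁆ ≤ U := commutator_le_left _ _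
  have hE1L : ⁅⁅U, B⁆, OO X⁆ = ⊥ := by
    rw [eq_bot_iff, ← hE]
    exact commutator_mono hE1E le_rfl
  -- elements
  have hBEe : ∀ b ∈ B, ∀ e ∈ ⁅U, Q⁆, b * e = e * b := comm_eq_bot_iff.1 hBE
  have hUc : ∀ x ∈ U, ∀ y ∈ U, x * y = y * x := (isElementaryAbelian_iff.1 h.Uel).1
  have hBU : ∀ b ∈ B, ∀ u ∈ U, ⁅b, u⁆ ∈ ⁅U, B⁆ := fun b hb u hu => by
    rw [← commutatorElement_inv]
    exact inv_mem (commutator_mem_commutator hu hb)
  obtain ⟨H, hHn, hHlt, hH2⟩ := exists_hyper T (isElementaryAbelian_mono h.Uel (hE1E.trans hEU)) hE1L hne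
  haveI := hHn
  -- the radical
  set Um : Subgroup X := cW H U (B : Set X) with hUm
  have hUmn : Um.Normal := by
    refine ⟨fun u hu g => ⟨hUn.conj_mem u hu.1 g, fun b hb => ?_⟩⟩
    have h1 := hu.2 (g⁻¹ * b * g⁻¹⁻¹) (hBn.conj_mem b hb g⁻¹)
    have h2 := hHn.conj_mem _ h1 g
    have e : g * ⁅g⁻¹ * b * g⁻¹⁻¹, u⁆ * g⁻¹ = ⁅b, g * u * g⁻¹⁆ := by
      rw [commutatorElement_def, commutatorElement_def]; group
    rwa [e] at h2
  have hUmU : Um ≤ U := cW_le H U _
  have hWUm : ¬ ⁅U, OO X⁆ ≤ Um := by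
    intro h1
    have h2 : ⁅⁅U, OO X⁆, B⁆ ≤ H := by
      rw [commutator_le]
      intro w hw b hb
      rw [← commutatorElement_inv]
      exact inv_mem ((h1 hw).2 b hb)
    have h3 : ⁅⁅OO X, B⁆, U⁆ ≤ H := by
      have hn : ∀ K : Subgroup X, K ≤ normalizer (H : Set X) := fun K => by
        rw [normalizer_eq_top_iff.2 hHn]; exact le_top
      refine SignalizersComponents.PerfectGoingUp.three_subgroups_mod (hn _) (hn _) (hn _) ?_ h2
      rw [commutator_comm B U, hE1L]
      exact bot_le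
    rw [commutator_comm (OO X) B, hBB, commutator_comm] at h3
    exact absurd hHlt (not_lt_of_ge h3)
  have hDUm : D ≤ Um := by
    intro d hd
    have hDU : D ≤ U := hD.le.trans (commutator_le_left _ _)
    refine ⟨hDU hd, fun b hb => ?_⟩
    have h1 := comm_eq_bot_iff.1 (hBZ' D hDU hDL) b hb d hd
    rw [commutatorElement_eq_one_iff_mul_comm.2 h1]
    exact one_mem _
  have hUmW : Um ⊓ ⁅U, OO X⁆ = D := by
    rcases hD.irr (Um ⊓ ⁅U, OO X⁆) inferInstance (le_inf hDUm hD.le) inf_le_right with h1 | h1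
    · exact h1
    · exact absurd (inf_eq_right.1 h1) hWUm
  have hUmL : ⁅Um, OO X⁆ = ⊥ := by
    refine comm_eq_bot_of_le (D := D) (h.U_isPGroup.to_le hUmU) ?_ hDL
    rw [← hUmW]
    exact le_inf (commutator_le_left _ _) (commutator_mono hUmU le_rfl)
  have hUmB : ∀ b ∈ B, ∀ u ∈ Um, b * u = u * b := comm_eq_bot_iff.1 (hBZ' Um hUmU hUmL)
  -- the characters
  have hmulB : ∀ b ∈ B, ∀ b' ∈ B, ∀ u ∈ U, ⁅b * b', u⁆ = ⁅b, u⁆ * ⁅b', u⁆ := by
    intro b hb b' hb' u hu
    have h1 : b * ⁅b', u⁆ = ⁅b', u⁆ * b := hBEe b hb _ (hE1E (hBU b' hb' u hu))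
    have h2 : ⁅b', u⁆ * ⁅b, u⁆ = ⁅b, u⁆ * ⁅b', u⁆ :=
      hUc _ (hEU (hE1E (hBU b' hb' u hu))) _ (hEU (hE1E (hBU b hb u hu)))
    rw [← h2]
    calc ⁅b * b', u⁆ = (b * ⁅b', u⁆) * u * b⁻¹ * u⁻¹ := by
          simp only [commutatorElement_def]; group
      _ = (⁅b', u⁆ * b) * u * b⁻¹ * u⁻¹ := by rw [h1]
      _ = ⁅b', u⁆ * ⁅b, u⁆ := by simp only [commutatorElement_def]; group
  have hmulU : ∀ b ∈ B, ∀ u ∈ U, ∀ u' ∈ U, ⁅b, u * u'⁆ = ⁅b, u⁆ * ⁅b, u'⁆ := by
    intro b hb u hu u' hu'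
    have h1 : u * ⁅b, u'⁆ = ⁅b, u'⁆ * u := hUc u hu _ (hEU (hE1E (hBU b hb u' hu')))
    calc ⁅b, u * u'⁆ = ⁅b, u⁆ * (u * ⁅b, u'⁆) * u⁻¹ := by
          simp only [commutatorElement_def]; group
      _ = ⁅b, u⁆ * (⁅b, u'⁆ * u) * u⁻¹ := by rw [h1]
      _ = ⁅b, u⁆ * ⁅b, u'⁆ := by group
  have hite : ∀ x ∈ ⁅U, B⁆, ∀ y ∈ ⁅U, B⁆, (if x * y ∈ H then (1 : ℚ) else -1) =
      (if x ∈ H then (1 : ℚ) else -1) * (if y ∈ H then (1 : ℚ) else -1) := by
    intro x hx y hy
    by_cases h1 : x ∈ H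
    · by_cases h2 : y ∈ H
      · rw [if_pos h1, if_pos h2, if_pos (mul_mem h1 h2), mul_one]
      · have h3 : x * y ∉ H := fun h4 => h2 ((H.mul_mem_cancel_left h1).1 h4)
        rw [if_pos h1, if_neg h2, if_neg h3, one_mul]
    · by_cases h2 : y ∈ H
      · have h3 : x * y ∉ H := fun h4 => h1 ((H.mul_mem_cancel_right h2).1 h4)
        rw [if_neg h1, if_pos h2, if_neg h3, mul_one]
      · rw [if_neg h1, if_neg h2, if_pos (hH2 x hx y hy h1 h2)]
        norm_num
  let χ : V → (B →* ℚ) := fun v =>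
    { toFun := fun b => if ⁅(b : X), (v : X)⁆ ∈ H then 1 else -1
      map_one' := by
        rw [OneMemClass.coe_one, commutatorElement_one_left, if_pos (one_mem _)]
      map_mul' := fun b b' => by
        rw [Subgroup.coe_mul, hmulB b b.2 b' b'.2 v (hVU v.2)]
        exact hite _ (hBU b b.2 v (hVU v.2)) _ (hBU b' b'.2 v (hVU v.2)) }
  have hχ : ∀ (v : V) (b : B), χ v b = if ⁅(b : X), (v : X)⁆ ∈ H then 1 else -1 := fun _ _ => rfl
  have hBV : B ≤ normalizer (V : Set X) := (hBQ.trans (pCore_le T)).trans h.TV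
  haveI hNn : ((centralizer (V : Set X)).subgroupOf B).Normal := by
    refine normal_subgroupOf_of_le_normalizer ?_
    intro b hb
    have h1 := hBV hb
    rw [mem_normalizer_iff]
    intro y
    have key : ∀ b ∈ normalizer (V : Set X), ∀ y ∈ centralizer (V : Set X), b * y * b⁻¹ ∈ centralizer (V : Set X) := by
      intro b hb y hy
      rw [mem_centralizer_iff]
      intro v hv
      have h2 : b⁻¹ * v * b ∈ V := by
        have := (mem_normalizer_iff.1 (inv_mem hb) v).1 hv
        rwa [inv_inv] at this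
      have h3 := mem_centralizer_iff.1 hy _ h2
      calc v * (b * y * b⁻¹) = b * ((b⁻¹ * v * b) * y) * b⁻¹ := by group
        _ = b * (y * (b⁻¹ * v * b)) * b⁻¹ := by rw [h3]
        _ = b * y * b⁻¹ * v := by group
    refine ⟨key b h1 y, fun hy => ?_⟩
    have := key b⁻¹ (inv_mem h1) _ hy
    have e : b⁻¹ * (b * y * b⁻¹) * b⁻¹⁻¹ = y := by group
    rwa [e] at this
  have hcount : ((centralizer (B : Set X)).subgroupOf V).index ≤ ((centralizer (V : Set X)).subgroupOf B).index := by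
    refine pairing_index χ _ _ ?_ ?_
    · intro v v' hvv
      rw [mem_subgroupOf, mem_centralizer_iff]
      have hmem : (v : X)⁻¹ * v' ∈ Um := by
        refine ⟨mul_mem (inv_mem (hVU v.2)) (hVU v'.2), fun b hb => ?_⟩
        have h1 := DFunLike.congr_fun hvv ⟨b, hb⟩
        rw [hχ, hχ] at h1
        rw [hmulU b hb _ (inv_mem (hVU v.2)) _ (hVU v'.2)]
        have h2 : ⁅b, (v : X)⁻¹⁆ = ⁅b, (v : X)⁆⁻¹ := by
          have h3 := hmulU b hb _ (hVU v.2) _ (inv_mem (hVU v.2))
          rw [mul_inv_cancel, commutatorElement_one_right] at h3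
          exact (inv_eq_of_mul_eq_one_right h3.symm).symm
        rw [h2]
        by_cases h4 : ⁅b, (v : X)⁆ ∈ H
        · rw [if_pos h4] at h1
          have h5 : ⁅b, (v' : X)⁆ ∈ H := by
            by_contra h6
            rw [if_neg h6] at h1
            norm_num at h1
          exact mul_mem (inv_mem h4) h5
        · rw [if_neg h4] at h1
          have h5 : ⁅b, (v' : X)⁆ ∉ H := by
            intro h6
            rw [if_pos h6] at h1
            norm_num at h1
          exact hH2 _ (inv_mem (hBU b hb v (hVU v.2))) _ (hBU b hb v' (hVU v'.2))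
            (fun h7 => h4 (by simpa using inv_mem h7)) h5
      intro b hb
      exact hUmB b hb _ hmem
    · intro v b hb
      rw [mem_subgroupOf, mem_centralizer_iff] at hb
      have h1 : ⁅(b : X), (v : X)⁆ = 1 := by
        rw [commutatorElement_eq_one_iff_mul_comm]
        exact (hb v v.2).symm
      rw [hχ, h1, if_pos (one_mem _)]
  -- the conclusion
  apply h.noq
  have hBVE : ⁅V, B⁆ ≤ ⁅U, Q⁆ := commutator_mono hVU hBQ
  refine quadParamLE_of_card (B := B) (hBQ.trans (pCore_le T)) ?_ ?_ ?_ ?_ ?_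
  · intro b hb
    rw [mem_centralizer_iff]
    intro v hv
    have h1 := hmulB b hb b hb v (hVU hv)
    have h2 : ⁅b, v⁆ * ⁅b, v⁆ = 1 := by
      rw [← pow_two]
      exact h.Uel.2 _ (hEU (hE1E (hBU b hb v (hVU hv))))
    rw [h2, ← pow_two, commutatorElement_eq_one_iff_mul_comm] at h1
    exact h1.symm
  · have h1 : ⁅⁅B, B⁆, V⁆ = ⊥ := by
      refine commutator_commutator_eq_bot_of_rotate ?_ ?_
      · rw [eq_bot_iff, ← hBE, commutator_comm B V, commutator_comm ⁅V, B⁆ B]
        exact commutator_mono le_rfl hBVE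
      · rw [eq_bot_iff, ← hBE, commutator_comm ⁅V, B⁆ B]
        exact commutator_mono le_rfl hBVE
    intro b hb b' hb'
    rw [mem_centralizer_iff]
    intro v hv
    exact (comm_eq_bot_iff.1 h1 ⁅b, b'⁆ (commutator_mem_commutator hb hb') v hv).symm
  · intro h1
    apply hne
    rw [commutator_eq_bot_iff_le_centralizer, le_centralizer_iff]
    refine normalClosure_le_centralizer fun g => ?_
    intro b hb
    have h2 := h1 (hBn.conj_mem b hb g⁻¹)
    rw [mem_centralizer_iff] at h2 ⊢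
    rintro _ ⟨v, hv, rfl⟩
    have h3 := h2 v hv
    change g * v * g⁻¹ * b = b * (g * v * g⁻¹)
    calc g * v * g⁻¹ * b = g * (v * (g⁻¹ * b * g⁻¹⁻¹)) * g⁻¹ := by group
      _ = g * ((g⁻¹ * b * g⁻¹⁻¹) * v) * g⁻¹ := by rw [h3]
      _ = b * (g * v * g⁻¹) := by group
  · rw [eq_bot_iff, ← hBE, commutator_comm ⁅V, B⁆ B]
    exact commutator_mono le_rfl hBVE
  · have h1 := card_inf_mul_relIndex V (centralizer (B : Set X))
    have h2 := card_inf_mul_relIndex B (centralizer (V : Set X))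
    have h3 : (centralizer (B : Set X)).relIndex V ≤ (centralizer (V : Set X)).relIndex B := hcount
    have h4 : 1 ≤ (centralizer (V : Set X)).relIndex B := by
      rw [Nat.one_le_iff_ne_zero, relIndex]; exact index_ne_zero_of_finite
    rw [← h1, ← h2]
    set r := (centralizer (B : Set X)).relIndex V
    set s := (centralizer (V : Set X)).relIndex B
    set b0 := Nat.card ↥(B ⊓ centralizer (V : Set X))
    set v0 := Nat.card ↥(V ⊓ centralizer (B : Set X))
    calc b0 ^ 2 * (v0 * r) ≤ b0 ^ 2 * (v0 * (s * s)) := by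
          refine Nat.mul_le_mul_left _ (Nat.mul_le_mul_left _ ?_)
          exact h3.trans (Nat.le_mul_of_pos_right _ h4)
      _ = (b0 * s) ^ 2 * v0 := by ring

/-- `[W, Q] = 1` -/
theorem comm_WQ {D : Subgroup X} [hDn : D.Normal] (hD : Chief D ⁅normalClosure (V : Set X), OO X⁆)
    (hDL : ⁅D, OO X⁆ = ⊥) : ⁅⁅normalClosure (V : Set X), OO X⁆, pCore 2 X⁆ = ⊥ := by
  refine commutator_commutator_eq_bot_of_rotate ?_ ?_
  · rw [commutator_comm (OO X), commutator_comm]
    exact h.comm_B hD hDL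
  · rw [commutator_comm (pCore 2 X)]
    exact h.comm_E hD hDL

end Sit

end Cfsg.Agent.QrcE
end

-- part: Qrc/DBase
section
/-!
# S1824 (qrc-lemma), case `V ≰ O₂(H)`: basic facts (helper55)

`X` is the minimal parabolic `H`, `Q = O₂(X)`, `D = V ∩ Q`, `q = |V : D|`.

* `exists_chief'` : a noncentral normal 2-subgroup involves a noncentral chief factor;
* `noOver_normal` : `|A : A ∩ Q| ≤ |N : C_N(A)|` for a noncentral normal 2-subgroup `N`;
* `Dit` : the situation, with the negation of the conclusion (`q̂ ≤ 2`);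
* `Dit.neg` : the negation for subgroups `B ≤ Q` with `[D, B, B] = 1`;
* `Dit.f_lt` : `|D^g : C(V)| < q` for all `g`;
* `Dit.sq_lt` : `|C_Q(D) : C_Q(V)|² < q`;
* `Dit.central_of_le` : normal subgroups of `X` in `C_Q(D)` are centralised by `O²(X)`.
-/

set_option autoImplicit false
set_option linter.unusedVariables false
set_option linter.unusedSectionVars false

namespace Cfsg.Agent.Qrc

open Subgroup Cfsg Cfsg.Agent.MinSimple.MinParabolic Cfsg.Agent.Omega.FFBr Cfsg.Agent.QrcE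
open Cfsg.Agent.PLocal.ThompsonJ
open Cfsg.Agent.ZN.ChoiceBase (cj mem_cj cj_mono cj_le_iff cj_inv_cj cj_cj_inv card_cj cj_inf cj_centralizer
  isElementaryAbelian_cj)
open scoped commutatorElement

universe u

section

variable {X : Type u} [Group X]

theorem relIndex_pos' [Finite X] (A B : Subgroup X) : 0 < A.relIndex B := by
  rw [Nat.pos_iff_ne_zero, relIndex]
  exact index_ne_zero_of_finite

/-- a minimal normal section which is a 2-group is elementary abelian -/
theorem sq_mem_of_irr [Finite X] {D W : Subgroup X} [hD : D.Normal] [hW : W.Normal] (hp : IsPGroup 2 W) (hlt : D < W)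
    (hirr : ∀ N : Subgroup X, N.Normal → D ≤ N → N ≤ W → N = D ∨ N = W) : ∀ w ∈ W, w * w ∈ D := by
  set W' : Subgroup (X ⧸ D) := W.map (QuotientGroup.mk' D) with hW'
  have hn : W'.Normal := hW.map _ (QuotientGroup.mk'_surjective D)
  let E : Subgroup (X ⧸ D) :=
    { carrier := {e | e ∈ W' ∧ (∀ w ∈ W', w * e = e * w) ∧ e * e = 1}
      one_mem' := ⟨one_mem _, fun w _ => by simp, by simp⟩
      mul_mem' := by
        rintro a b ⟨ha, ha1, ha2⟩ ⟨hb, hb1, hb2⟩
        refine ⟨mul_mem ha hb, fun w hw => ?_, ?_⟩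
        · rw [← mul_assoc, ha1 w hw, mul_assoc, hb1 w hw, mul_assoc]
        · calc a * b * (a * b) = a * (b * a) * b := by group
            _ = a * (a * b) * b := by rw [ha1 b hb]
            _ = (a * a) * (b * b) := by group
            _ = 1 := by rw [ha2, hb2, one_mul]
      inv_mem' := by
        rintro a ⟨ha, ha1, ha2⟩
        have : a⁻¹ = a := inv_eq_of_mul_eq_one_left ha2
        rw [this]
        exact ⟨ha, ha1, ha2⟩ }
  have hmemE : ∀ e : X ⧸ D, e ∈ E ↔ (e ∈ W' ∧ (∀ w ∈ W', w * e = e * w) ∧ e * e = 1) := fun _ => Iff.rfl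
  have hEn : E.Normal := by
    refine ⟨fun e he g => ?_⟩
    obtain ⟨h1, h2, h3⟩ := he
    refine ⟨hn.conj_mem e h1 g, fun w hw => ?_, ?_⟩
    · have h4 := h2 (g⁻¹ * w * g) (by simpa using hn.conj_mem w hw g⁻¹)
      calc w * (g * e * g⁻¹) = g * (g⁻¹ * w * g * e) * g⁻¹ := by group
        _ = g * (e * (g⁻¹ * w * g)) * g⁻¹ := by rw [h4]
        _ = g * e * g⁻¹ * w := by group
    · calc g * e * g⁻¹ * (g * e * g⁻¹) = g * (e * e) * g⁻¹ := by group
        _ = 1 := by rw [h3]; group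
  have hpW : IsPGroup 2 W' := hp.map _
  obtain ⟨w, hw, hwD⟩ := SetLike.exists_of_lt hlt
  have hnt : Nontrivial W' := by
    refine ⟨⟨QuotientGroup.mk' D w, w, hw, rfl⟩, 1, fun h1 => hwD ?_⟩
    exact (QuotientGroup.eq_one_iff w).1 (congrArg Subtype.val h1)
  have : Fact (Nat.Prime 2) := ⟨Nat.prime_two⟩
  have := hpW.center_nontrivial
  obtain ⟨n, hcard⟩ := IsPGroup.iff_card.1 (hpW.to_subgroup (center W'))
  have h2 : 2 ∣ Nat.card (center W') := by
    rw [hcard]
    refine dvd_pow_self 2 ?_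
    rintro rfl
    have := Finite.one_lt_card (α := center W')
    rw [hcard] at this
    simp at this
  obtain ⟨c, hc⟩ := exists_prime_orderOf_dvd_card' 2 h2
  have hc1 : ((c : W') : X ⧸ D) ∈ E := by
    rw [hmemE]
    refine ⟨(c : W').2, fun w hw => ?_, ?_⟩
    · have := mem_center_iff.1 c.2 ⟨w, hw⟩
      exact congrArg Subtype.val this
    · have h3 : c ^ 2 = 1 := by rw [← hc]; exact pow_orderOf_eq_one c
      rw [pow_two] at h3
      exact congrArg (fun z : center W' => ((z : W') : X ⧸ D)) h3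
  have hc2 : ((c : W') : X ⧸ D) ≠ 1 := by
    intro h3
    have : c = 1 := Subtype.ext (Subtype.ext h3)
    rw [this, orderOf_one] at hc
    omega
  have hle : E.comap (QuotientGroup.mk' D) ≤ W := by
    intro x hx
    obtain ⟨w', hw', he⟩ := ((hmemE _).1 hx).1
    have h1 : w'⁻¹ * x ∈ D := QuotientGroup.eq.1 he
    have h2 : x = w' * (w'⁻¹ * x) := by group
    rw [h2]
    exact mul_mem hw' (hlt.le h1)
  have hDE : D ≤ E.comap (QuotientGroup.mk' D) := by
    intro d hd
    rw [mem_comap, show QuotientGroup.mk' D d = 1 from (QuotientGroup.eq_one_iff d).2 hd]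
    exact one_mem _
  rcases hirr _ (hEn.comap _) hDE hle with h1 | h1
  · exfalso
    apply hc2
    obtain ⟨x, hx⟩ := QuotientGroup.mk'_surjective D ((c : W') : X ⧸ D)
    have h3 : x ∈ E.comap (QuotientGroup.mk' D) := by
      rw [mem_comap, hx]
      exact hc1
    rw [h1] at h3
    rw [← hx]
    exact (QuotientGroup.eq_one_iff x).2 h3
  · intro w hw
    rw [← h1, mem_comap] at hw
    have h3 := ((hmemE _).1 hw).2.2
    rw [← map_mul] at h3
    exact (QuotientGroup.eq_one_iff _).1 h3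

/-- a noncentral normal 2-subgroup involves a noncentral chief factor -/
theorem exists_chief' [Finite X] {N : Subgroup X} [hN : N.Normal] (hp : IsPGroup 2 N) (hne : ⁅N, OO X⁆ ≠ ⊥) :
    ∃ D W : Subgroup X, ∃ _ : D.Normal, ∃ _ : W.Normal, W ≤ N ∧ Chief D W := by
  obtain ⟨W, hW⟩ := (Set.toFinite {W : Subgroup X | W.Normal ∧ W ≤ N ∧ ⁅W, OO X⁆ ≠ ⊥}).exists_minimal
    ⟨N, hN, le_rfl, hne⟩
  obtain ⟨hWn, hWN, hWne⟩ := hW.prop
  have hW1 : W ≠ ⊥ := by
    rintro rfl
    exact hWne (commutator_bot_left _)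
  obtain ⟨D, hD⟩ := (Set.toFinite {D : Subgroup X | D.Normal ∧ D < W}).exists_maximal
    ⟨⊥, inferInstance, bot_lt_iff_ne_bot.2 hW1⟩
  have hDn : D.Normal := hD.prop.1
  have hirr : ∀ N : Subgroup X, N.Normal → D ≤ N → N ≤ W → N = D ∨ N = W := fun N hN hDN hNW => by
    by_cases h1 : N = W
    · exact Or.inr h1
    · exact Or.inl (le_antisymm (hD.le_of_ge ⟨hN, lt_of_le_of_ne hNW h1⟩ hDN) hDN)
  have hWp : IsPGroup 2 W := hp.to_le hWN
  refine ⟨D, W, hDn, hWn, hWN, hD.prop.2.le, sq_mem_of_irr hWp hD.prop.2 hirr, hirr, fun h1 => ?_⟩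
  apply hWne
  by_contra hcon
  have h2 : ⁅⁅W, OO X⁆, OO X⁆ ≠ ⊥ := by
    rw [comm_comm_eq hWp]
    exact hcon
  have h3 := hW.le_of_le ⟨inferInstance, (commutator_le_left W (OO X)).trans hWN, h2⟩ (commutator_le_left W (OO X))
  exact absurd hD.prop.2 (not_lt_of_ge (h3.trans h1))

/-- **no over-offender on a noncentral normal 2-subgroup** -/
theorem noOver_normal (hFF : AStmt.{u}) [Finite X] {T : Sylow 2 X} {M : Subgroup X}
    (hm : IsMin (T : Subgroup X) M) {N : Subgroup X} [hN : N.Normal] (hp : IsPGroup 2 N) (hne : ⁅N, OO X⁆ ≠ ⊥)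
    {A : Subgroup X} (hAT : A ≤ (T : Subgroup X)) (hA : IsElementaryAbelian 2 A) :
    (pCore 2 X).relIndex A ≤ (centralizer (A : Set X)).relIndex N := by
  obtain ⟨D, W, hDn, hWn, hWN, hc⟩ := exists_chief' hp hne
  have h1 := noOver_sec hFF hm hc hAT hA
  calc (pCore 2 X).relIndex A ≤ (pCore 2 X).relIndex A * (centralizer (A : Set X)).relIndex D :=
        Nat.le_mul_of_pos_right _ (relIndex_pos' _ _)
    _ ≤ (centralizer (A : Set X)).relIndex W := h1
    _ ≤ (centralizer (A : Set X)).relIndex N := relIndex_le_of_le_right hWN (relIndex_pos' _ _).ne'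

/-- the situation: `V ≤ T` elementary abelian, normal in `T`, `V ≰ O₂(X)`, no cubic offender -/
structure Dit (T : Sylow 2 X) (M V : Subgroup X) : Prop where
  min : IsMin (T : Subgroup X) M
  c2 : centralizer ((pCore 2 X : Subgroup X) : Set X) ≤ pCore 2 X
  VT : V ≤ (T : Subgroup X)
  TV : (T : Subgroup X) ≤ normalizer (V : Set X)
  el : IsElementaryAbelian 2 V
  VQ : ¬ V ≤ pCore 2 X
  no : ¬ CubicParamLE (T : Subgroup X) V 2

/-- `V ∩ O₂(X)` -/
abbrev dd (V : Subgroup X) : Subgroup X := V ⊓ pCore 2 X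

theorem comm_le_of_norm {V B : Subgroup X} (hB : B ≤ normalizer (V : Set X)) : ⁅V, B⁆ ≤ V := by
  rw [commutator_le]
  intro v hv b hb
  have e : ⁅v, b⁆ = v * (b * v⁻¹ * b⁻¹) := by rw [commutatorElement_def]; group
  rw [e]
  exact mul_mem hv ((mem_normalizer_iff.1 (hB hb) _).1 (inv_mem hv))

theorem mem_pCore_conj {t x : X} : x ∈ pCore 2 X ↔ t * x * t⁻¹ ∈ pCore 2 X := by
  constructor
  · exact fun hx => (inferInstance : (pCore 2 X).Normal).conj_mem x hx t
  · intro hx
    have := (inferInstance : (pCore 2 X).Normal).conj_mem _ hx t⁻¹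
    simpa [mul_assoc] using this

theorem mem_pCore_conj' {t x : X} : x ∈ pCore 2 X ↔ t⁻¹ * x * t ∈ pCore 2 X := by
  simpa using mem_pCore_conj (t := t⁻¹) (x := x)

theorem relIndex_cj (g : X) (A B : Subgroup X) : (cj g A).relIndex (cj g B) = A.relIndex B :=
  relIndex_map_map_of_injective A B (MulAut.conj g).injective

theorem cj_pCore (g : X) : cj g (pCore 2 X) = pCore 2 X := by
  ext x
  rw [mem_cj]
  exact mem_pCore_conj'.symm

/-- two elements acting in the same way on `V` -/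
theorem comm_mem_of_act {V B : Subgroup X} (hBV : B ≤ normalizer (V : Set X))
    (hcom : ∀ b ∈ B, ∀ b' ∈ B, ∀ v ∈ V, (b * b') * v * (b * b')⁻¹ = (b' * b) * v * (b' * b)⁻¹) :
    ∀ b ∈ B, ∀ b' ∈ B, b * b' * b⁻¹ * b'⁻¹ ∈ centralizer (V : Set X) := by
  intro b hb b' hb'
  rw [mem_centralizer_iff]
  intro w hw
  have h1 : (b' * b)⁻¹ * w * (b' * b) ∈ V := by
    have := (mem_normalizer_iff.1 (inv_mem (hBV (mul_mem hb' hb))) w).1 hw
    simpa using this
  have h2 := hcom b hb b' hb' _ h1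
  have h3 : (b' * b) * ((b' * b)⁻¹ * w * (b' * b)) * (b' * b)⁻¹ = w := by group
  rw [h3] at h2
  have h4 : b * b' * ((b' * b)⁻¹ * w * (b' * b)) * (b * b')⁻¹ =
      (b * b' * b⁻¹ * b'⁻¹) * w * (b * b' * b⁻¹ * b'⁻¹)⁻¹ := by group
  rw [h4, mul_inv_eq_iff_eq_mul] at h2
  exact h2.symm

theorem comm_normalClosure_le {A N S : Subgroup X} [hA : A.Normal] [hN : N.Normal] (h : ⁅A, S⁆ ≤ N) :
    ⁅A, normalClosure (S : Set X)⁆ ≤ N := by
  set C : Subgroup X := (centralizer ((A.map (QuotientGroup.mk' N) : Subgroup (X ⧸ N)) : Set (X ⧸ N))).comap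
    (QuotientGroup.mk' N) with hC
  have hAn : (A.map (QuotientGroup.mk' N)).Normal := hA.map _ (QuotientGroup.mk'_surjective N)
  have hCn : C.Normal := (normal_centralizer (H := A.map (QuotientGroup.mk' N))).comap _
  have hmem : ∀ x : X, x ∈ C ↔ ∀ a ∈ A, ⁅a, x⁆ ∈ N := by
    intro x
    rw [hC, mem_comap, mem_centralizer_iff]
    constructor
    · intro h1 a ha
      have h2 := h1 _ ⟨a, ha, rfl⟩
      rw [← QuotientGroup.eq_one_iff]
      change QuotientGroup.mk' N ⁅a, x⁆ = 1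
      rw [map_commutatorElement, commutatorElement_eq_one_iff_mul_comm]
      exact h2
    · rintro h1 _ ⟨a, ha, rfl⟩
      have h2 : QuotientGroup.mk' N ⁅a, x⁆ = 1 := (QuotientGroup.eq_one_iff _).2 (h1 a ha)
      rw [map_commutatorElement, commutatorElement_eq_one_iff_mul_comm] at h2
      exact h2
  have h1 : normalClosure (S : Set X) ≤ C := by
    refine normalClosure_le_normal fun s hs => ?_
    exact (hmem s).2 fun a ha => h (commutator_mem_commutator ha hs)
  rw [commutator_le]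
  exact fun a ha x hx => (hmem x).1 (h1 hx) a ha

namespace Dit

variable {T : Sylow 2 X} {M V : Subgroup X} (h : Dit T M V)
include h

theorem comm_V_le {B : Subgroup X} (hB : B ≤ pCore 2 X) : ⁅V, B⁆ ≤ dd V :=
  le_inf (comm_le_of_norm (hB.trans ((pCore_le T).trans h.TV)))
    ((commutator_mono le_rfl hB).trans (commutator_le_right _ _))

/-- `D` is normalised by `T` -/
theorem T_le_dd : (T : Subgroup X) ≤ normalizer ((dd V : Subgroup X) : Set X) := by
  intro t ht
  rw [mem_normalizer_iff]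
  intro x
  have h1 := mem_normalizer_iff.1 (h.TV ht) x
  exact and_congr h1 mem_pCore_conj

theorem Q_le_dd : pCore 2 X ≤ normalizer ((dd V : Subgroup X) : Set X) := (pCore_le T).trans h.T_le_dd

/-- `Q` normalises the conjugates of `D` -/
theorem Q_le_cj (g : X) : pCore 2 X ≤ normalizer ((cj g (dd V) : Subgroup X) : Set X) := by
  have h1 := cj_mono g h.Q_le_dd
  rw [cj_pCore, ZN.ChoiceBase.cj_normalizer] at h1
  exact h1

theorem cj_le_Q (g : X) : cj g (dd V) ≤ pCore 2 X := by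
  have h1 := cj_mono g (inf_le_right : dd V ≤ pCore 2 X)
  rwa [cj_pCore] at h1

theorem elD : IsElementaryAbelian 2 (dd V) := isElementaryAbelian_mono h.el inf_le_left

theorem elcj (g : X) : IsElementaryAbelian 2 (cj g (dd V)) := isElementaryAbelian_cj g h.elD

/-- **the negation of `q̂ ≤ 2` for subgroups of `Q`** -/
theorem neg [Finite X] {B : Subgroup X} (hBQ : B ≤ pCore 2 X) (ne : ¬ B ≤ centralizer (V : Set X))
    (sq : ∀ b ∈ B, b ^ 2 ∈ centralizer (V : Set X))
    (com : ∀ b ∈ B, ∀ b' ∈ B, b * b' * b⁻¹ * b'⁻¹ ∈ centralizer (V : Set X))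
    (cub : ⁅⁅dd V, B⁆, B⁆ = ⊥) :
    ((centralizer (V : Set X)).relIndex B) ^ 2 <
      (pCore 2 X).relIndex V * (centralizer (B : Set X)).relIndex (dd V) := by
  by_contra hcon
  rw [not_lt] at hcon
  refine h.no ⟨B, hBQ.trans (pCore_le T), ⟨ne, sq, com⟩, ?_, ?_⟩
  · rw [← le_bot_iff, ← cub]
    exact commutator_mono (commutator_mono (h.comm_V_le hBQ) le_rfl) le_rfl
  · refine le_trans ?_ hcon
    have h1 := relIndex_mul_relIndex (dd V ⊓ centralizer (B : Set X)) (dd V) V inf_le_left inf_le_left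
    have h2 : (dd V ⊓ centralizer (B : Set X)).relIndex (dd V) = (centralizer (B : Set X)).relIndex (dd V) :=
      inf_relIndex_left _ _
    have h3 : (dd V).relIndex V = (pCore 2 X).relIndex V := inf_relIndex_left _ _
    rw [h2, h3] at h1
    rw [mul_comm, h1]
    exact relIndex_le_of_le_left (inf_le_inf_right _ inf_le_left) (relIndex_pos' _ _).ne'

theorem one_lt [Finite X] : 1 < (pCore 2 X).relIndex V := by
  have h1 := relIndex_pos' (pCore 2 X) V
  rcases Nat.lt_or_ge 1 ((pCore 2 X).relIndex V) with h2 | h2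
  · exact h2
  · exact absurd (relIndex_eq_one.1 (le_antisymm h2 h1)) h.VQ

theorem neg_el [Finite X] {B : Subgroup X} (hBQ : B ≤ pCore 2 X) (ne : ¬ B ≤ centralizer (V : Set X))
    (hB : IsElementaryAbelian 2 B) (cub : ⁅⁅dd V, B⁆, B⁆ = ⊥) :
    ((centralizer (V : Set X)).relIndex B) ^ 2 <
      (pCore 2 X).relIndex V * (centralizer (B : Set X)).relIndex (dd V) := by
  refine h.neg hBQ ne (fun b hb => ?_) (fun b hb b' hb' => ?_) cub
  · rw [hB.2 b hb]; exact one_mem _
  · have : b * b' * b⁻¹ * b'⁻¹ = 1 := by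
      rw [(isElementaryAbelian_iff.1 hB).1 b hb b' hb']; group
    rw [this]; exact one_mem _

/-- `|D^g : C(V)|` -/
theorem cent_le [Finite X] (g : X) : (centralizer ((cj g (dd V) : Subgroup X) : Set X)).relIndex (dd V) ≤
    (centralizer (V : Set X)).relIndex (cj g⁻¹ (dd V)) := by
  have h1 : centralizer ((cj g V : Subgroup X) : Set X) ≤ centralizer ((cj g (dd V) : Subgroup X) : Set X) :=
    centralizer_le (cj_mono g inf_le_left)
  refine (relIndex_le_of_le_left h1 (relIndex_pos' _ _).ne').trans (le_of_eq ?_)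
  rw [← relIndex_cj g⁻¹, cj_centralizer, cj_inv_cj]

theorem comm_cj (g : X) : ⁅⁅dd V, cj g (dd V)⁆, cj g (dd V)⁆ = ⊥ := by
  have h1 : ⁅dd V, cj g (dd V)⁆ ≤ cj g (dd V) := by
    rw [commutator_comm]
    exact comm_le_of_norm (inf_le_right.trans (h.Q_le_cj g))
  rw [← le_bot_iff]
  refine (commutator_mono h1 le_rfl).trans ?_
  rw [le_bot_iff, comm_eq_bot_iff]
  exact fun a ha b hb => (isElementaryAbelian_iff.1 (h.elcj g)).1 a ha b hb

/-- **`|D^g : C(V)| < |V : D|`** -/
theorem f_lt [Finite X] (g : X) : (centralizer (V : Set X)).relIndex (cj g (dd V)) < (pCore 2 X).relIndex V := by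
  have key : ∀ g : X, (centralizer (V : Set X)).relIndex (cj g⁻¹ (dd V)) ≤
      (centralizer (V : Set X)).relIndex (cj g (dd V)) →
      (centralizer (V : Set X)).relIndex (cj g (dd V)) < (pCore 2 X).relIndex V := by
    intro g hg
    by_contra hcon
    rw [not_lt] at hcon
    have hne : ¬ cj g (dd V) ≤ centralizer (V : Set X) := by
      intro h1
      rw [relIndex_eq_one.2 h1] at hcon
      exact absurd h.one_lt (not_lt_of_ge hcon)
    have h1 := h.neg_el (h.cj_le_Q g) hne (h.elcj g) (h.comm_cj g)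
    have h2 := (h.cent_le g).trans hg
    have h3 : (pCore 2 X).relIndex V * (centralizer ((cj g (dd V) : Subgroup X) : Set X)).relIndex (dd V) ≤
        (centralizer (V : Set X)).relIndex (cj g (dd V)) ^ 2 := by
      rw [pow_two]
      exact Nat.mul_le_mul hcon h2
    omega
  rcases le_total ((centralizer (V : Set X)).relIndex (cj g⁻¹ (dd V)))
      ((centralizer (V : Set X)).relIndex (cj g (dd V))) with h1 | h1
  · exact key g h1
  · refine lt_of_le_of_lt h1 (key g⁻¹ ?_)
    rwa [inv_inv]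

/-- **`|C_Q(D) : C_Q(V)|² < |V : D|`** -/
theorem sq_lt [Finite X] :
    ((centralizer (V : Set X)).relIndex (pCore 2 X ⊓ centralizer ((dd V : Subgroup X) : Set X))) ^ 2 <
      (pCore 2 X).relIndex V := by
  set B : Subgroup X := pCore 2 X ⊓ centralizer ((dd V : Subgroup X) : Set X) with hB
  by_cases hne : B ≤ centralizer (V : Set X)
  · rw [relIndex_eq_one.2 hne, one_pow]
    exact h.one_lt
  have hBV : B ≤ normalizer (V : Set X) := inf_le_left.trans ((pCore_le T).trans h.TV)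
  -- `b v b⁻¹ = e v`
  have key : ∀ b ∈ B, ∀ v ∈ V, ∃ e ∈ dd V, b * v * b⁻¹ = e * v ∧ ∀ b' ∈ B, b' * e * b'⁻¹ = e := by
    intro b hb v hv
    refine ⟨⁅b, v⁆, ?_, by rw [commutatorElement_def]; group, ?_⟩
    · have h1 := h.comm_V_le (B := B) inf_le_left (commutator_mem_commutator hv hb)
      rw [← commutatorElement_inv]
      exact inv_mem h1
    · intro b' hb'
      have h1 : ⁅b, v⁆ ∈ dd V := by
        have h1 := h.comm_V_le (B := B) inf_le_left (commutator_mem_commutator hv hb)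
        rw [← commutatorElement_inv]
        exact inv_mem h1
      have h2 := mem_centralizer_iff.1 hb'.2 _ h1
      rw [← h2]
      group
  have hD := isElementaryAbelian_iff.1 h.elD
  have h1 := h.neg (B := B) inf_le_left hne ?_ ?_ ?_
  · have h2 : (centralizer (B : Set X)).relIndex (dd V) = 1 :=
      relIndex_eq_one.2 (le_centralizer_iff.1 inf_le_right)
    rwa [h2, mul_one] at h1
  · intro b hb
    rw [mem_centralizer_iff]
    intro v hv
    obtain ⟨e, he, hbe, hc⟩ := key b hb v hv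
    have h2 : b ^ 2 * v * (b ^ 2)⁻¹ = v := by
      have hee : e * e = 1 := by
        have := hD.2 e he
        rwa [pow_two] at this
      calc b ^ 2 * v * (b ^ 2)⁻¹ = b * (b * v * b⁻¹) * b⁻¹ := by rw [pow_two, mul_inv_rev]; simp only [mul_assoc]
        _ = b * (e * v) * b⁻¹ := by rw [hbe]
        _ = (b * e * b⁻¹) * (b * v * b⁻¹) := by group
        _ = e * (e * v) := by rw [hc b hb, hbe]
        _ = v := by rw [← mul_assoc, hee, one_mul]
    rw [mul_inv_eq_iff_eq_mul] at h2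
    exact h2.symm
  · refine comm_mem_of_act hBV ?_
    intro b hb b' hb' v hv
    obtain ⟨e, he, hbe, hc⟩ := key b hb v hv
    obtain ⟨e', he', hbe', hc'⟩ := key b' hb' v hv
    calc (b * b') * v * (b * b')⁻¹ = b * (b' * v * b'⁻¹) * b⁻¹ := by group
      _ = (b * e' * b⁻¹) * (b * v * b⁻¹) := by rw [hbe']; group
      _ = e' * (e * v) := by rw [hc' b hb, hbe]
      _ = e * (e' * v) := by rw [← mul_assoc, hD.1 e' he' e he, mul_assoc]
      _ = (b' * e * b'⁻¹) * (b' * v * b'⁻¹) := by rw [hc b' hb', hbe']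
      _ = b' * (e * v) * b'⁻¹ := by group
      _ = b' * (b * v * b⁻¹) * b'⁻¹ := by rw [hbe]
      _ = (b' * b) * v * (b' * b)⁻¹ := by group
  · have h2 : ⁅dd V, B⁆ = ⊥ := by
      rw [commutator_eq_bot_iff_le_centralizer, le_centralizer_iff]
      exact inf_le_right
    rw [h2, commutator_bot_left]

/-- **normal subgroups of `X` in `C_Q(D)` are centralised by `O²(X)`** -/
theorem central_of_le [Finite X] (hFF : AStmt.{u}) {N : Subgroup X} [N.Normal] (hN : N ≤ pCore 2 X)
    (hc : N ≤ centralizer ((dd V : Subgroup X) : Set X)) : ⁅N, OO X⁆ = ⊥ := by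
  by_contra hne
  have h1 := noOver_normal hFF h.min (N := N) ((Lib.Cores.pCore_isPGroup 2).to_le hN) hne h.VT h.el
  have h2 : (centralizer (V : Set X)).relIndex N ≤
      (centralizer (V : Set X)).relIndex (pCore 2 X ⊓ centralizer ((dd V : Subgroup X) : Set X)) :=
    relIndex_le_of_le_right (le_inf hN hc) (relIndex_pos' _ _).ne'
  have h3 := h.sq_lt
  have h4 := relIndex_pos' (centralizer (V : Set X)) (pCore 2 X ⊓ centralizer ((dd V : Subgroup X) : Set X))
  set r := (centralizer (V : Set X)).relIndex (pCore 2 X ⊓ centralizer ((dd V : Subgroup X) : Set X))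
  have h5 : r ≤ r ^ 2 := Nat.le_self_pow two_ne_zero r
  omega

theorem OO_le_ncl [Finite X] : OO X ≤ normalClosure (V : Set X) := by
  rcases inf_le_or h.min (normalClosure (V : Set X)) with h1 | h1
  · exact absurd ((le_inf h.VT subset_normalClosure).trans h1) h.VQ
  · exact h1

end Dit

/-- `U = ⟨D^X⟩` -/
abbrev uu (V : Subgroup X) : Subgroup X := normalClosure ((dd V : Subgroup X) : Set X)

namespace Dit

variable {T : Sylow 2 X} {M V : Subgroup X} (h : Dit T M V)
include h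

theorem uu_le : uu V ≤ pCore 2 X := normalClosure_le_normal inf_le_right

theorem uu_isPGroup [Finite X] : IsPGroup 2 (uu V) := (Lib.Cores.pCore_isPGroup 2).to_le h.uu_le

theorem comm_Q_ncl : ⁅pCore 2 X, normalClosure (V : Set X)⁆ ≤ uu V := by
  refine comm_normalClosure_le ?_
  rw [commutator_comm]
  exact (h.comm_V_le le_rfl).trans subset_normalClosure

theorem comm_Q_OO [Finite X] : ⁅pCore 2 X, OO X⁆ ≤ uu V :=
  (commutator_mono le_rfl h.OO_le_ncl).trans h.comm_Q_ncl

theorem OO_ne [Finite X] : ¬ OO X ≤ pCore 2 X := by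
  intro h1
  have hT : (T : Subgroup X) = ⊤ := by
    rw [eq_top_iff, ← OO_sup T]
    exact sup_le (h1.trans (pCore_le T)) le_rfl
  have htop : pCore 2 X = ⊤ := by
    rw [eq_top_iff, ← hT]
    have hn : (T : Subgroup X).Normal := by rw [hT]; infer_instance
    exact Lib.Cores.le_pCore hn T.isPGroup'
  exact h.VQ (by rw [htop]; exact le_top)

theorem Q_noncentral [Finite X] : ⁅pCore 2 X, OO X⁆ ≠ ⊥ := by
  intro h1
  rw [commutator_eq_bot_iff_le_centralizer, le_centralizer_iff] at h1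
  exact h.OO_ne (h1.trans h.c2)

/-- **`U` is not centralised by `O²(X)`** -/
theorem U_noncentral [Finite X] : ⁅uu V, OO X⁆ ≠ ⊥ := fun h1 =>
  h.Q_noncentral (comm_eq_bot_of_le (Lib.Cores.pCore_isPGroup 2) h.comm_Q_OO h1)

/-- `|U : C_U(V)| ≥ q` -/
theorem le_U [Finite X] (hFF : AStmt.{u}) :
    (pCore 2 X).relIndex V ≤ (centralizer (V : Set X)).relIndex (uu V) :=
  noOver_normal hFF h.min h.uu_isPGroup h.U_noncentral h.VT h.el

end Dit

end

end Cfsg.Agent.Qrc
end
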